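import Groth.Agent.L07.GabQ.Frac
import Groth.Agent.L16.HomSh.Basic

/-! An exact equivalence matching the structure sheaves is the pullback by an isomorphism. -/

set_option autoImplicit false
set_option linter.style.haveILetI false
set_option linter.unusedSectionVars false
set_option backward.defeqAttrib.useBackward true
set_option backward.isDefEq.respectTransparency false
set_option backward.isDefEq.respectTransparency.types false

universe u
open CategoryTheory CategoryTheory.Limits AlgebraicGeometry TopologicalSpace Opposite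
open Groth.L18.Frame (rs ro rs_rs rs_self rs_smul)

noncomputable section

namespace Groth.L07.GabQ

variable {X Y : Scheme.{u}} [QuasiSeparatedSpace X] [QuasiSeparatedSpace Y]
  (e₀ : Y ≃ₜ X) {Ψ : QC X ⥤ QC Y}
  (u : Ψ.obj (OQ X) ≅ OQ Y)

/-- The continuous map. -/
abbrev gm : Y.toTopCat ⟶ X.toTopCat := (TopCat.isoOfHomeo e₀).hom

variable (hΨ : SuppExact₂ (gm e₀) Ψ) [Ψ.Additive]

theorem isCompact_pre {V : X.Opens} (hV : IsCompact (V : Set X)) : IsCompact (pre (gm e₀) V : Set Y) :=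
  e₀.isCompact_preimage.2 hV

theorem sec_ext_cover {N : Y.Modules} {U : X.Opens} {n n' : Γ(N, pre (gm e₀) U)}
    (h : ∀ (V : X.Opens) (_ : IsCompact (V : Set X)) (hV : V ≤ U),
      rs N (pre_mono (gm e₀) hV) n = rs N (pre_mono (gm e₀) hV) n') : n = n' := by
  refine Groth.L15.PureKill.germ_ext fun y hy => ?_
  obtain ⟨_, ⟨V, hV, rfl⟩, hyV, hVU⟩ :=
    X.isBasis_affineOpens.exists_subset_of_mem_open (show gm e₀ y ∈ (U : Set X) from hy) U.2
  rw [← Groth.L20.ModStalk.germ_rs N (pre_mono (gm e₀) (V := V) hVU) hyV n,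
    ← Groth.L20.ModStalk.germ_rs N (pre_mono (gm e₀) (V := V) hVU) hyV n', h V hV.isCompact hVU]

/-- Corresponding sections, checked on quasi-compact opens. -/
def RelAll (N : QC X) (U : X.Opens) (m : Γ(N.obj, U)) (n : Γ((Ψ.obj N).obj, pre (gm e₀) U)) : Prop :=
  ∀ (V : X.Opens) (_ : IsCompact (V : Set X)) (hV : V ≤ U),
    Rel (gm e₀) Ψ u N V (rs N.obj hV m) (rs (Ψ.obj N).obj (pre_mono (gm e₀) hV) n)

abbrev Cov (U : X.Opens) : Type u := {V : X.Opens // IsCompact (V : Set X) ∧ V ≤ U}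

theorem le_iSup_cov (U : X.Opens) : U ≤ ⨆ V : Cov U, V.1 := fun x hx => by
  obtain ⟨_, ⟨V, hV, rfl⟩, hxV, hVU⟩ :=
    X.isBasis_affineOpens.exists_subset_of_mem_open (show x ∈ (U : Set X) from hx) U.2
  exact Opens.mem_iSup.2 ⟨⟨V, hV.isCompact, hVU⟩, hxV⟩

theorem isCompact_inf {U : X.Opens} (a b : Cov U) : IsCompact ((a.1 ⊓ b.1 : X.Opens) : Set X) :=
  QuasiSeparatedSpace.inter_isCompact _ _ a.1.2 a.2.1 b.1.2 b.2.1

include hΨ

theorem exists_relAll (N : QC X) (U : X.Opens) (m : Γ(N.obj, U)) : ∃ n, RelAll e₀ u N U m n := by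
  choose n hn using fun V : Cov U => exists_rel (u := u) hΨ N V.1 V.2.1 (rs N.obj V.2.2 m)
  obtain ⟨y, hy⟩ := Groth.L16.HomSh.exists_glue (Ψ.obj N).obj (fun V : Cov U => pre (gm e₀) V.1)
    (fun V => pre_mono (gm e₀) V.2.2)
    (fun y hy => by
      obtain ⟨V, hV⟩ := Opens.mem_iSup.1 (le_iSup_cov U hy)
      exact Opens.mem_iSup.2 ⟨V, hV⟩) n fun a b => by
      have ha := (hn a).res (inf_le_left : a.1 ⊓ b.1 ≤ a.1)
      have hb := (hn b).res (inf_le_right : a.1 ⊓ b.1 ≤ b.1)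
      rw [rs_rs] at ha hb
      exact (rel_eq_iff hΨ ha hb).1 rfl
  refine ⟨y, fun V hV hVU => ?_⟩
  have := hy ⟨V, hV, hVU⟩
  rw [this]
  exact hn ⟨V, hV, hVU⟩

theorem exists_relAll' [Ψ.Full] (hess : ∀ N : QC Y, ∃ M : QC X, Nonempty (Ψ.obj M ≅ N))
    (N : QC X) (U : X.Opens) (n : Γ((Ψ.obj N).obj, pre (gm e₀) U)) : ∃ m, RelAll e₀ u N U m n := by
  choose m hm using fun V : Cov U => exists_rel' (u := u) hΨ hess N V.1 (isCompact_pre e₀ V.2.1)
    (rs (Ψ.obj N).obj (pre_mono (gm e₀) V.2.2) n)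
  obtain ⟨y, hy⟩ := Groth.L16.HomSh.exists_glue N.obj (fun V : Cov U => V.1) (fun V => V.2.2) (le_iSup_cov U) m
    fun a b => by
      have ha := (hm a).res (inf_le_left : a.1 ⊓ b.1 ≤ a.1)
      have hb := (hm b).res (inf_le_right : a.1 ⊓ b.1 ≤ b.1)
      rw [rs_rs] at ha hb
      exact (rel_eq_iff hΨ ha hb).2 rfl
  refine ⟨y, fun V hV hVU => ?_⟩
  have := hy ⟨V, hV, hVU⟩
  rw [this]
  exact hm ⟨V, hV, hVU⟩

/-- The transported section. -/
def eta (N : QC X) (U : X.Opens) (m : Γ(N.obj, U)) : Γ((Ψ.obj N).obj, pre (gm e₀) U) :=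
  (exists_relAll e₀ u hΨ N U m).choose

theorem eta_spec (N : QC X) (U : X.Opens) (m : Γ(N.obj, U)) : RelAll e₀ u N U m (eta e₀ u hΨ N U m) :=
  (exists_relAll e₀ u hΨ N U m).choose_spec

theorem eta_eq {N : QC X} {U : X.Opens} {m : Γ(N.obj, U)} {n : Γ((Ψ.obj N).obj, pre (gm e₀) U)}
    (h : RelAll e₀ u N U m n) : eta e₀ u hΨ N U m = n :=
  sec_ext_cover e₀ fun V hV hVU => (rel_eq_iff hΨ (eta_spec e₀ u hΨ N U m V hV hVU) (h V hV hVU)).1 rfl

theorem eta_add (N : QC X) (U : X.Opens) (m m' : Γ(N.obj, U)) :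
    eta e₀ u hΨ N U (m + m') = eta e₀ u hΨ N U m + eta e₀ u hΨ N U m' :=
  eta_eq e₀ u hΨ fun V hV hVU => by
    rw [show rs N.obj hVU (m + m') = rs N.obj hVU m + rs N.obj hVU m' from map_add (N.obj.presheaf.map _).hom _ _,
      show rs (Ψ.obj N).obj (pre_mono (gm e₀) hVU) (eta e₀ u hΨ N U m + eta e₀ u hΨ N U m') =
        rs (Ψ.obj N).obj (pre_mono (gm e₀) hVU) (eta e₀ u hΨ N U m) + rs (Ψ.obj N).obj (pre_mono (gm e₀) hVU) (eta e₀ u hΨ N U m')
        from map_add ((Ψ.obj N).obj.presheaf.map _).hom _ _]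
    exact rel_add hΨ (eta_spec e₀ u hΨ N U m V hV hVU) (eta_spec e₀ u hΨ N U m' V hV hVU)

theorem eta_natural {N N' : QC X} (g : N ⟶ N') (U : X.Opens) (m : Γ(N.obj, U)) :
    eta e₀ u hΨ N' U (g.hom.app U m) = (Ψ.map g).hom.app (pre (gm e₀) U) (eta e₀ u hΨ N U m) :=
  eta_eq e₀ u hΨ fun V hV hVU => by
    rw [← app_rs, ← app_rs]
    exact (eta_spec e₀ u hΨ N U m V hV hVU).comp g

theorem eta_res (N : QC X) {U W : X.Opens} (h : W ≤ U) (m : Γ(N.obj, U)) :
    eta e₀ u hΨ N W (rs N.obj h m) = rs (Ψ.obj N).obj (pre_mono (gm e₀) h) (eta e₀ u hΨ N U m) :=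
  eta_eq e₀ u hΨ fun V hV hVW => by
    rw [rs_rs, rs_rs]
    exact eta_spec e₀ u hΨ N U m V hV (hVW.trans h)

theorem eta_injective (N : QC X) (U : X.Opens) : Function.Injective (eta e₀ u hΨ N U) := fun m m' h => by
  refine Groth.L15.PureKill.germ_ext fun x hx => ?_
  obtain ⟨_, ⟨V, hV, rfl⟩, hxV, hVU⟩ :=
    X.isBasis_affineOpens.exists_subset_of_mem_open (show x ∈ (U : Set X) from hx) U.2
  rw [← Groth.L20.ModStalk.germ_rs N.obj (V := V) hVU hxV m, ← Groth.L20.ModStalk.germ_rs N.obj (V := V) hVU hxV m',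
    (rel_eq_iff hΨ (eta_spec e₀ u hΨ N U m V hV.isCompact hVU) (eta_spec e₀ u hΨ N U m' V hV.isCompact hVU)).2 (by rw [h])]

/-- The transported function. -/
def rho (U : X.Opens) (r : Γ(X, U)) : Γ(Y, pre (gm e₀) U) :=
  u.hom.hom.app (pre (gm e₀) U) (eta e₀ u hΨ (OQ X) U r)

theorem eta_smul (N : QC X) (U : X.Opens) (r : Γ(X, U)) (m : Γ(N.obj, U)) :
    eta e₀ u hΨ N U (r • m) = rho e₀ u hΨ U r • eta e₀ u hΨ N U m :=
  eta_eq e₀ u hΨ fun V hV hVU => by
    rw [rs_smul, rs_smul]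
    have h1 := rel_smul hΨ (eta_spec e₀ u hΨ N U m V hV hVU) (eta_spec e₀ u hΨ (OQ X) U r V hV hVU)
    rw [app_rs] at h1
    exact h1

theorem rho_one (U : X.Opens) : rho e₀ u hΨ U 1 = 1 := by
  set W := pre (gm e₀) U
  have hu : u.hom.hom.app W (u.inv.hom.app W (one₁ W)) = one₁ W := app_congrC u.inv_hom_id W _
  have h : RelAll e₀ u (OQ X) U (one₁ U) (u.inv.hom.app W (one₁ W)) := fun V hV hVU => by
    set V' := pre (gm e₀) V
    rw [← app_rs]
    erw [rs_one, rs_one]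
    exact ⟨OQ X, 𝟙 _, 𝟙 _, one₁ V, u.inv.hom.app V' (one₁ V'),
      BijOn.of_isIso (𝟙 (OQ X).obj) V, rfl, rfl,
      (app_congrC (show tmap Ψ u (𝟙 (OQ X)) = u.hom by rw [tmap, Ψ.map_id, Category.id_comp]) V' _).trans
        (app_congrC u.inv_hom_id V' _),
      app_congrC (Ψ.map_id (OQ X)) V' _⟩
  exact (congrArg (u.hom.hom.app W) (eta_eq e₀ u hΨ h)).trans hu

theorem rho_mul (U : X.Opens) (r r' : Γ(X, U)) : rho e₀ u hΨ U (r * r') = rho e₀ u hΨ U r * rho e₀ u hΨ U r' :=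
  (congrArg (u.hom.hom.app (pre (gm e₀) U)) (eta_smul e₀ u hΨ (OQ X) U r r')).trans (Scheme.Modules.Hom.app_smul _ _ _)

theorem rho_add (U : X.Opens) (r r' : Γ(X, U)) : rho e₀ u hΨ U (r + r') = rho e₀ u hΨ U r + rho e₀ u hΨ U r' :=
  (congrArg (u.hom.hom.app (pre (gm e₀) U)) (eta_add e₀ u hΨ (OQ X) U r r')).trans (map_add _ _ _)

theorem rho_res {U V : X.Opens} (h : V ≤ U) (r : Γ(X, U)) :
    rho e₀ u hΨ V (X.presheaf.map (homOfLE h).op r) =
      Y.presheaf.map (homOfLE (pre_mono (gm e₀) h)).op (rho e₀ u hΨ U r) :=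
  (congrArg (u.hom.hom.app (pre (gm e₀) V)) (eta_res e₀ u hΨ (OQ X) h r)).trans (app_rs _ (pre_mono (gm e₀) h) _)

variable [Ψ.Full] (hess : ∀ N : QC Y, ∃ M : QC X, Nonempty (Ψ.obj M ≅ N))

include hess hΨ in
theorem eta_bijective (N : QC X) (U : X.Opens) : Function.Bijective (eta e₀ u hΨ N U) :=
  ⟨eta_injective e₀ u hΨ N U, fun n => by
    obtain ⟨m, hm⟩ := exists_relAll' e₀ u hΨ hess N U n
    exact ⟨m, eta_eq e₀ u hΨ hm⟩⟩

include hess hΨ in
theorem rho_bijective (U : X.Opens) : Function.Bijective (rho e₀ u hΨ U) := by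
  haveI : IsIso u.hom.hom := inferInstanceAs (IsIso ((ObjectProperty.ι _).map u.hom))
  exact (ConcreteCategory.bijective_of_isIso (u.hom.hom.app (pre (gm e₀) U))).comp (eta_bijective e₀ u hΨ hess (OQ X) U)

/-- The isomorphism of the structure sheaves. -/
def rhoIso : X.presheaf ≅ (TopCat.Presheaf.pushforward CommRingCat (gm e₀)).obj Y.presheaf :=
  NatIso.ofComponents
    (fun U => (RingEquiv.ofBijective
      ({ toFun := rho e₀ u hΨ U.unop
         map_one' := rho_one e₀ u hΨ _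
         map_mul' := rho_mul e₀ u hΨ _
         map_zero' := add_eq_left.1 ((rho_add e₀ u hΨ _ 0 0).symm.trans (by rw [add_zero]))
         map_add' := rho_add e₀ u hΨ _ } : Γ(X, U.unop) →+* Γ(Y, pre (gm e₀) U.unop))
      (rho_bijective e₀ u hΨ hess _)).toCommRingCatIso)
    (fun {U V} i => by
      ext r
      exact rho_res e₀ u hΨ i.unop.le r)

/-- The isomorphism. -/
def autIso : Y ≅ X :=
  let e : Y.toPresheafedSpace ≅ X.toPresheafedSpace :=
    PresheafedSpace.isoOfComponents (TopCat.isoOfHomeo e₀) (rhoIso e₀ u hΨ hess).symm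
  let s : Y.toSheafedSpace ≅ X.toSheafedSpace := InducedCategory.isoMk e
  let l := LocallyRingedSpace.isoOfSheafedSpaceIso s
  { hom := ⟨l.hom⟩
    inv := ⟨l.inv⟩
    hom_inv_id := Scheme.forgetToLocallyRingedSpace.map_injective l.hom_inv_id
    inv_hom_id := Scheme.forgetToLocallyRingedSpace.map_injective l.inv_hom_id }

/-- The transported sections as a morphism of modules. -/
def etaHom (N : QC X) : N.obj ⟶ (Scheme.Modules.pushforward (autIso e₀ u hΨ hess).hom).obj (Ψ.obj N).obj :=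
  ⟨PresheafOfModules.homMk
    { app := fun U => AddCommGrpCat.ofHom
        { toFun := fun m => eta e₀ u hΨ N U.unop m
          map_zero' := add_eq_left.1 ((eta_add e₀ u hΨ N U.unop 0 0).symm.trans (by rw [add_zero]))
          map_add' := eta_add e₀ u hΨ N U.unop }
      naturality := fun U V i => by
        ext m
        exact eta_res e₀ u hΨ N i.unop.le m }
    (fun U r m => eta_smul e₀ u hΨ N U.unop r m)⟩

theorem etaHom_app (N : QC X) (U : X.Opens) (m : Γ(N.obj, U)) :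
    (etaHom e₀ u hΨ hess N).app U m = eta e₀ u hΨ N U m := rfl

instance isIso_etaHom (N : QC X) : IsIso (etaHom e₀ u hΨ hess N) :=
  Scheme.Modules.Hom.isIso_iff_isIso_app.2 fun U =>
    (ConcreteCategory.isIso_iff_bijective _).2 (eta_bijective e₀ u hΨ hess N U)

/-- The natural isomorphism with the direct image. -/
def etaIso : ObjectProperty.ι _ ≅
    Ψ ⋙ ObjectProperty.ι _ ⋙ Scheme.Modules.pushforward (autIso e₀ u hΨ hess).hom :=
  NatIso.ofComponents (fun N => asIso (etaHom e₀ u hΨ hess N)) fun {N N'} g => by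
    refine Scheme.Modules.hom_ext _ _ fun U => ?_
    ext m
    exact eta_natural e₀ u hΨ g U m

/-- The functor is the pullback. -/
def pullIso : ObjectProperty.ι _ ⋙ Scheme.Modules.pullback (autIso e₀ u hΨ hess).hom ≅
    Ψ ⋙ ObjectProperty.ι _ :=
  let f := (autIso e₀ u hΨ hess).hom
  let A := Scheme.Modules.pullbackPushforwardAdjunction f
  haveI : IsIso A.counit := inferInstance
  Functor.isoWhiskerRight (etaIso e₀ u hΨ hess) (Scheme.Modules.pullback f) ≪≫
    Functor.isoWhiskerLeft (Ψ ⋙ ObjectProperty.ι _) (asIso A.counit) ≪≫ Functor.rightUnitor _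

end Groth.L07.GabQ
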