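import Groth.Agent.L21.Mod.Locality
import Groth.Agent.L15.PureKill.Basic
import Groth.Agent.L00.StalkFunctor
import Groth.Agent.L00.AlgQCoh
import Groth.Agent.L16.QcqsPush
import Groth.Agent.L17.QCohExtension
import Groth.Agent.L18.Frame
import Groth.Agent.L19.ConormalAffine

/-! Quasi-coherent modules: stalkwise bijections and fractions representing sections. -/

set_option autoImplicit false
set_option linter.style.haveILetI false
set_option backward.defeqAttrib.useBackward true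
set_option backward.isDefEq.respectTransparency false
set_option backward.isDefEq.respectTransparency.types false

universe u
open CategoryTheory CategoryTheory.Limits AlgebraicGeometry TopologicalSpace Opposite
open Groth.L18.Frame (rs ro rs_rs rs_self rs_smul)

noncomputable section

namespace Groth.L07.GabQ


variable {X : Scheme.{u}}

local notation "S[" x "]" => Groth.L00.Stk.F X x

/-- Isomorphism on the stalks over `U`. -/
def BijOn {M N : X.Modules} (g : M ⟶ N) (U : X.Opens) : Prop :=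
  ∀ x ∈ U, Function.Bijective ((S[x]).map g)

/-- Zero on the stalks over `U`. -/
def ZeroOn {M N : X.Modules} (g : M ⟶ N) (U : X.Opens) : Prop :=
  ∀ x ∈ U, ∀ s, (S[x]).map g s = 0

theorem stalk_app_germ {M N : X.Modules} (g : M ⟶ N) {V : X.Opens} {x : X} (hx : x ∈ V) (s : Γ(M, V)) :
    (S[x]).map g (M.presheaf.germ V x hx s) = N.presheaf.germ V x hx (g.app V s) :=
  TopCat.Presheaf.stalkFunctor_map_germ_apply V x hx g.mapPresheaf s

theorem BijOn.app {M N : X.Modules} {g : M ⟶ N} {U : X.Opens} (h : BijOn g U) {V : X.Opens} (hV : V ≤ U) :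
    Function.Bijective (g.app V) :=
  TopCat.Presheaf.app_bijective_of_stalkFunctor_map_bijective
    ((Groth.L21.Mod.toAbSh X).map g) V fun x hx => h x (hV hx)

theorem BijOn.of_app {M N : X.Modules} {g : M ⟶ N} {U : X.Opens}
    (h : ∀ V ≤ U, Function.Bijective (g.app V)) : BijOn g U := by
  intro x hx
  refine ⟨fun a b hab => ?_, fun b => ?_⟩
  · obtain ⟨V, hV, a', rfl⟩ := M.presheaf.exists_germ_eq (x := x) a
    obtain ⟨W, hW, b', rfl⟩ := M.presheaf.exists_germ_eq (x := x) b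
    rw [stalk_app_germ, stalk_app_germ] at hab
    obtain ⟨Z, hZ, i, j, he⟩ := TopCat.Presheaf.germ_eq N.presheaf x hV hW _ _ hab
    have hZU : x ∈ Z ⊓ U := ⟨hZ, hx⟩
    let p : Z ⊓ U ⟶ V := homOfLE (inf_le_left.trans i.le)
    let q : Z ⊓ U ⟶ W := homOfLE (inf_le_left.trans j.le)
    rw [← TopCat.Presheaf.germ_res_apply M.presheaf p x hZU a', ← TopCat.Presheaf.germ_res_apply M.presheaf q x hZU b']
    refine congrArg _ ((h (Z ⊓ U) inf_le_right).1 ?_)
    have h1 := NatTrans.naturality_apply g.mapPresheaf p.op a'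
    have h2 := NatTrans.naturality_apply g.mapPresheaf q.op b'
    refine h1.trans (Eq.trans ?_ h2.symm)
    have e1 : p = (homOfLE inf_le_left : Z ⊓ U ⟶ Z) ≫ i := rfl
    have e2 : q = (homOfLE inf_le_left : Z ⊓ U ⟶ Z) ≫ j := rfl
    rw [e1, e2, op_comp, op_comp, Functor.map_comp, Functor.map_comp]
    exact congrArg _ he
  · obtain ⟨V, hV, b', rfl⟩ := N.presheaf.exists_germ_eq (x := x) b
    have hVU : x ∈ V ⊓ U := ⟨hV, hx⟩
    obtain ⟨a, ha⟩ := (h (V ⊓ U) inf_le_right).2 (N.presheaf.map (homOfLE inf_le_left : V ⊓ U ⟶ V).op b')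
    refine ⟨M.presheaf.germ _ x hVU a, ?_⟩
    rw [stalk_app_germ, ha, TopCat.Presheaf.germ_res_apply]

theorem ZeroOn.app {M N : X.Modules} {g : M ⟶ N} {U : X.Opens} (h : ZeroOn g U) {V : X.Opens} (hV : V ≤ U)
    (s : Γ(M, V)) : g.app V s = 0 :=
  Groth.L15.PureKill.germ_ext fun x hx => by rw [map_zero, ← stalk_app_germ]; exact h x (hV hx) _

theorem ZeroOn.of_app {M N : X.Modules} {g : M ⟶ N} {U : X.Opens}
    (h : ∀ V ≤ U, ∀ s, g.app V s = 0) : ZeroOn g U := by
  intro x hx s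
  obtain ⟨V, hV, s', rfl⟩ := M.presheaf.exists_germ_eq (x := x) s
  have hVU : x ∈ V ⊓ U := ⟨hV, hx⟩
  rw [← TopCat.Presheaf.germ_res_apply M.presheaf (homOfLE inf_le_left : V ⊓ U ⟶ V) x hVU s', stalk_app_germ,
    h _ inf_le_right, map_zero]

theorem subsingleton_of_not_mem {M : X.Modules} {x : X} (h : x ∉ CohB1.support M) :
    Subsingleton ((S[x]).obj M) := not_not.1 h

theorem bij_zero_of_shortExact {K M I N C : X.Modules} (ι : K ⟶ M) (e : M ⟶ I) (i : I ⟶ N) (π : N ⟶ C)
    {w₁ : ι ≫ e = 0} {w₂ : i ≫ π = 0} (h₁ : (ShortComplex.mk ι e w₁).ShortExact)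
    (h₂ : (ShortComplex.mk i π w₂).ShortExact) (x : X) :
    (Function.Bijective ((S[x]).map (e ≫ i)) ↔ x ∉ CohB1.support K ∧ x ∉ CohB1.support C) ∧
      ((∀ s, (S[x]).map (e ≫ i) s = 0) ↔ x ∉ CohB1.support I) := by
  have s₁ := h₁.map_of_exact (S[x])
  have s₂ := h₂.map_of_exact (S[x])
  let ιx := (S[x]).map ι
  let ex := (S[x]).map e
  let ix := (S[x]).map i
  let πx := (S[x]).map π
  have hι : Function.Injective ιx := (ModuleCat.mono_iff_injective _).1 s₁.mono_f
  have he : Function.Surjective ex := (ModuleCat.epi_iff_surjective _).1 s₁.epi_g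
  have hi : Function.Injective ix := (ModuleCat.mono_iff_injective _).1 s₂.mono_f
  have hπ : Function.Surjective πx := (ModuleCat.epi_iff_surjective _).1 s₂.epi_g
  have r₁ := s₁.exact.moduleCat_range_eq_ker
  have r₂ := s₂.exact.moduleCat_range_eq_ker
  have ec : ∀ s, (S[x]).map (e ≫ i) s = ix (ex s) := fun s => congr($((S[x]).map_comp e i) s)
  refine ⟨⟨fun h => ⟨?_, ?_⟩, fun ⟨hK, hC⟩ => ?_⟩, ⟨fun h => ?_, fun h s => ?_⟩⟩
  · refine fun hn => hn ⟨fun a b => hι (h.1 ?_)⟩
    rw [ec, ec]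
    have z : ∀ c, ex (ιx c) = 0 := fun c => LinearMap.mem_ker.1 (r₁.le ⟨c, rfl⟩)
    rw [z, z]
  · refine fun hn => hn ⟨fun a b => ?_⟩
    have z : ∀ c : (S[x]).obj C, c = 0 := fun c => by
      obtain ⟨n, rfl⟩ := hπ c
      obtain ⟨m, rfl⟩ := h.2 n
      rw [ec]
      exact LinearMap.mem_ker.1 (r₂.le ⟨ex m, rfl⟩)
    exact (z a).trans (z b).symm
  · haveI := subsingleton_of_not_mem hK
    haveI := subsingleton_of_not_mem hC
    refine ⟨(injective_iff_map_eq_zero ((S[x]).map (e ≫ i)).hom).2 fun s hs => ?_, fun n => ?_⟩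
    · obtain ⟨c, rfl⟩ := r₁.ge (LinearMap.mem_ker.2 (hi (((ec s).symm.trans hs).trans (map_zero _).symm)))
      rw [show c = 0 from @Subsingleton.elim ((S[x]).obj K) _ c 0, map_zero]
    · obtain ⟨t, rfl⟩ := r₂.ge (LinearMap.mem_ker.2 (Subsingleton.elim _ _ : πx n = 0))
      obtain ⟨m, rfl⟩ := he t
      exact ⟨m, ec m⟩
  · refine fun hn => hn ⟨fun a b => ?_⟩
    have z : ∀ t : (S[x]).obj I, t = 0 := fun t => by
      obtain ⟨m, rfl⟩ := he t
      exact hi (((ec m).symm.trans (h m)).trans (map_zero _).symm)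
    exact (z a).trans (z b).symm
  · haveI := subsingleton_of_not_mem h
    rw [ec, Subsingleton.elim (ex s) 0, map_zero]


theorem app_rs {M N : X.Modules} (g : M ⟶ N) {U V : X.Opens} (h : V ≤ U) (s : Γ(M, U)) :
    g.app V (rs M h s) = rs N h (g.app U s) :=
  NatTrans.naturality_apply g.mapPresheaf (homOfLE h).op s

theorem BijOn.comp {L M N : X.Modules} {f : L ⟶ M} {g : M ⟶ N} {U : X.Opens} (hf : BijOn f U) (hg : BijOn g U) :
    BijOn (f ≫ g) U := fun x hx => by
  rw [Functor.map_comp]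
  exact (hg x hx).comp (hf x hx)

theorem BijOn.of_isIso {M N : X.Modules} (g : M ⟶ N) [IsIso g] (U : X.Opens) : BijOn g U :=
  fun _ _ => ConcreteCategory.bijective_of_isIso _

theorem BijOn.mono {M N : X.Modules} {g : M ⟶ N} {U V : X.Opens} (h : BijOn g U) (hV : V ≤ U) : BijOn g V :=
  fun x hx => h x (hV hx)

theorem BijOn.pullback_fst {M N P Q : X.Modules} {p : P ⟶ M} {q : P ⟶ N} {a : M ⟶ Q} {b : N ⟶ Q}
    (sq : IsPullback p q a b) {U : X.Opens} (hb : BijOn b U) : BijOn p U := fun x hx => by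
  have sqx := sq.map (Groth.L00.Stk.F X x)
  haveI : IsIso ((Groth.L00.Stk.F X x).map b) := (ConcreteCategory.isIso_iff_bijective _).2 (hb x hx)
  haveI : IsIso ((Groth.L00.Stk.F X x).map p) := sqx.isIso_fst_of_isIso
  exact ConcreteCategory.bijective_of_isIso _

theorem isQCoh_biprod {M N : X.Modules} (hM : Coh.IsQCoh M) (hN : Coh.IsQCoh N) : Coh.IsQCoh (M ⊞ N) :=
  Groth.L17.QCohExtension.isQCoh_extension (ShortComplex.mk biprod.inl biprod.snd (by simp))
    (ShortComplex.Splitting.shortExact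
      { r := biprod.fst, s := biprod.inr, f_r := biprod.inl_fst, s_g := biprod.inr_snd, id := biprod.total })
    hM hN

theorem isQCoh_pullback {M N Q : X.Modules} (a : M ⟶ Q) (b : N ⟶ Q) (hM : Coh.IsQCoh M) (hN : Coh.IsQCoh N)
    (hQ : Coh.IsQCoh Q) : Coh.IsQCoh (pullback a b) := by
  let e : pullback a b ≅ kernel (biprod.desc a (-b)) :=
    (Abelian.PullbackToBiproductIsKernel.isLimitPullbackToBiproduct a b).conePointUniqueUpToIso
      (limit.isLimit _)
  exact Groth.L00.AlgQCoh.qcohIso e.symm (Groth.L00.AlgQCoh.isQCoh_kernel_cokernel _ (isQCoh_biprod hM hN) hQ).1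

theorem isQCoh_image {M N : X.Modules} (f : M ⟶ N) (hM : Coh.IsQCoh M) (hN : Coh.IsQCoh N) :
    Coh.IsQCoh (Abelian.image f) :=
  (Groth.L00.AlgQCoh.isQCoh_kernel_cokernel _ hN (Groth.L00.AlgQCoh.isQCoh_kernel_cokernel f hM hN).2).1

/-- The structure sheaf. -/
abbrev Ox (X : Scheme.{u}) : X.Modules := Coh.structureModule X

/-- The section one. -/
abbrev one₁ (U : X.Opens) : Γ(Ox X, U) := (1 : Γ(X, U))

theorem rs_one {U V : X.Opens} (h : V ≤ U) : rs (Ox X) h (one₁ U) = one₁ V :=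
  map_one (X.presheaf.map (homOfLE h).op).hom

theorem eq_smul_gen {P : X.Modules} {U : X.Opens} (c : P ⟶ Ox X) (hc : BijOn c U) (t : Γ(P, U))
    (ht : c.app U t = one₁ U) {V : X.Opens} (hV : V ≤ U) (s : Γ(P, V)) :
    s = (show Γ(X, V) from c.app V s) • rs P hV t := (hc.app hV).1 (by
  refine Eq.trans ?_ (Scheme.Modules.Hom.app_smul c _ (rs P hV t)).symm
  rw [app_rs, ht, rs_one]
  exact (mul_one (show Γ(X, V) from c.app V s)).symm)

/-- A map vanishing at a generator vanishes. -/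
theorem zeroOn_of_gen {P N : X.Modules} {U : X.Opens} (c : P ⟶ Ox X) (hc : BijOn c U) (t : Γ(P, U))
    (ht : c.app U t = one₁ U) (f : P ⟶ N) (hf : f.app U t = 0) : ZeroOn f U := by
  refine ZeroOn.of_app fun V hV s => ?_
  rw [eq_smul_gen c hc t ht hV s, Scheme.Modules.Hom.app_smul, app_rs, hf]
  exact (congrArg (_ • ·) (map_zero (N.presheaf.map (homOfLE hV).op).hom)).trans (smul_zero _)

/-- Sections over quasi-compact opens are fractions of morphisms. -/
theorem exists_rep [QuasiSeparatedSpace X] (N : X.Modules) (hN : Coh.IsQCoh N) (U : X.Opens)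
    (hU : IsCompact (U : Set X)) (m : Γ(N, U)) :
    ∃ (M : X.Modules) (_ : Coh.IsQCoh M) (a : M ⟶ Ox X) (b : M ⟶ N) (t : Γ(M, U)),
      BijOn a U ∧ a.app U t = one₁ U ∧ b.app U t = m := by
  haveI := hN
  let j := U.ι
  haveI : QuasiCompact j := (quasiCompact_iff _).2 fun W hW hWc => by
    rw [U.ι.isOpenEmbedding.isEmbedding.isCompact_iff, Set.image_preimage_eq_inter_range, Scheme.Opens.range_ι]
    exact QuasiSeparatedSpace.inter_isCompact _ _ hW hWc U.2 hU
  haveI : Coh.IsQCoh (N.restrict j) := inferInstance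
  let P := (Scheme.Modules.pushforward j).obj (N.restrict j)
  have hP : Coh.IsQCoh P := Groth.L16.QcqsPush.isQCoh_push _ j
  let ρ : N ⟶ P := (Scheme.Modules.restrictAdjunction j).unit.app N
  have hρ : BijOn ρ U := BijOn.of_app fun V hV => by
    haveI : IsIso (homOfLE (j.image_preimage_le V)).op := by
      have e : j ''ᵁ j ⁻¹ᵁ V = V := by
        rw [Scheme.Hom.image_preimage_eq_opensRange_inf, U.opensRange_ι, inf_eq_right]
        exact hV
      exact ⟨(homOfLE e.ge).op, Subsingleton.elim _ _, Subsingleton.elim _ _⟩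
    rw [Scheme.Modules.restrictAdjunction_unit_app_app]
    exact ConcreteCategory.bijective_of_isIso _
  have eU : j ''ᵁ j ⁻¹ᵁ (⊤ : X.Opens) = U := by simp [j]
  let σ : Γ(P, ⊤) := rs N eU.le m
  let h := Groth.L16.homOfSection P σ
  have hO : Coh.IsQCoh (Ox X) := Groth.L19.Conormal.isQCoh_structureModule _
  let M := pullback h ρ
  let a : M ⟶ Ox X := pullback.fst h ρ
  let b : M ⟶ N := pullback.snd h ρ
  have ha : BijOn a U := BijOn.pullback_fst (IsPullback.of_hasPullback h ρ) hρ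
  obtain ⟨t, ht⟩ := (ha.app le_rfl).2 (one₁ U)
  refine ⟨M, isQCoh_pullback h ρ hO hN hP, a, b, t, ha, ht, (hρ.app le_rfl).1 ?_⟩
  have h1 := congrArg (fun g : M ⟶ P => g.app U t) (pullback.condition (f := h) (g := ρ))
  refine (h1.symm.trans ((congrArg (h.app U) ht).trans ?_))
  rw [Groth.L16.homOfSection_app, one_smul, Scheme.Modules.restrictAdjunction_unit_app_app]
  show rs N (j.image_mono (j.preimage_mono le_top)) (rs N eU.le m) = _
  rw [rs_rs]
  rfl

end Groth.L07.GabQ
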