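import Groth.Agent.L07.GabQ.Serre
import Groth.Agent.L17.QCohGab.FPObj
import Groth.Agent.L18.IdealModule
import Groth.Agent.L19.LimMod.Lift
import Groth.Agent.L17.Approx.Extend
import Groth.Agent.S8873
import Groth.Agent.L21.RR.Coh

/-! An equivalence of quasi-coherent modules gives a homeomorphism compatible with supports. -/

set_option autoImplicit false
set_option linter.style.haveILetI false
set_option linter.unusedSectionVars false
set_option backward.defeqAttrib.useBackward true
set_option backward.isDefEq.respectTransparency false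
set_option backward.isDefEq.respectTransparency.types false

universe u
open CategoryTheory CategoryTheory.Limits AlgebraicGeometry TopologicalSpace Opposite
open Groth.L18.Frame (rs rs_rs rs_self)

noncomputable section

namespace Groth.L07.GabQ

/-- Quasi-coherent modules. -/
abbrev QC (X : Scheme.{u}) := QCohCat.QCoh X

section One

variable {X : Scheme.{u}}

theorem qcoh (M : QC X) : Coh.IsQCoh M.obj := M.property

theorem isFT_of_isFP {M : X.Modules} (h : CohB1.IsFP M) : CohB1.IsFT M :=
  haveI : SheafOfModules.IsFinitePresentation (R := X.ringCatSheaf) M := h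
  inferInstanceAs (SheafOfModules.IsFiniteType (R := X.ringCatSheaf) M)

theorem isClosed_support_of_isFT {M : X.Modules} (hq : Coh.IsQCoh M) (h : CohB1.IsFT M) :
    IsClosed (CohB1.support M) := by
  rw [← Groth.Agent.S8876.result X M hq h]
  exact (Fitt.sheafIdeal M 0).support.isClosed

theorem isClosed_support_of_isFP {M : X.Modules} (h : CohB1.IsFP M) : IsClosed (CohB1.support M) :=
  isClosed_support_of_isFT (Groth.L05.Prufer.isQCoh_of_isFP h) (isFT_of_isFP h)

theorem isCompact_compl_support [CompactSpace X] {M : X.Modules} (h : CohB1.IsFP M) :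
    IsCompact (CohB1.support M)ᶜ :=
  Groth.L18.IdealModule.isCompact_compl_support (Fitt.sheafIdeal M 0) (Groth.Agent.S8873.result X M h 0)
    ⟨(CohB1.support M)ᶜ, (isClosed_support_of_isFP h).isOpen_compl⟩
    (by rw [Groth.Agent.S8876.result X M (Groth.L05.Prufer.isQCoh_of_isFP h) (isFT_of_isFP h)]; exact (compl_compl _).symm)

theorem mem_support_coker_iff {A B : X.Modules} (g : A ⟶ B) (x : X) :
    x ∈ CohB1.support (cokernel g) ↔ ¬ Function.Surjective ((Groth.L00.Stk.F X x).map g) := by
  rw [← not_iff_not, not_not]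
  haveI : Epi ((Groth.L00.Stk.F X x).map (cokernel.π g)) := inferInstance
  have hπ : Function.Surjective ((Groth.L00.Stk.F X x).map (cokernel.π g)) :=
    (ModuleCat.epi_iff_surjective _).1 inferInstance
  have hS := ((ShortComplex.exact_cokernel g).map (Groth.L00.Stk.F X x)).moduleCat_range_eq_ker
  refine ⟨fun h b => ?_, fun h => not_not.2 (subsingleton_of_forall_eq 0 fun t => ?_)⟩
  · exact hS.ge (LinearMap.mem_ker.2 (@Subsingleton.elim _ (not_not.1 h) _ _))
  · obtain ⟨b, rfl⟩ := hπ t
    obtain ⟨a, rfl⟩ := h b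
    exact LinearMap.mem_ker.1 (hS.le ⟨a, rfl⟩)

/-- Germs of functions as multiples of the germ one. -/
theorem germ_ox (x : X) {U : X.Opens} (hx : x ∈ U) (c : Γ(X, U)) :
    (Ox X).presheaf.germ U x hx c = X.presheaf.germ U x hx c • Groth.L21.RR.one X x := by
  have h1 : Groth.L21.RR.one X x = (Ox X).presheaf.germ U x hx (one₁ U) := by
    rw [← rs_one (le_top : U ≤ ⊤), Groth.L20.ModStalk.germ_rs]
    rfl
  rw [h1, ← Groth.L20.ModStalk.germ_smul]
  exact congrArg _ (mul_one c).symm

/-- Closed sets with quasi-compact complement are supports of modules of finite presentation. -/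
theorem exists_fp_support [CompactSpace X] [QuasiSeparatedSpace X] (U : X.Opens) (hU : IsCompact (U : Set X)) :
    ∃ M : X.Modules, CohB1.IsFP M ∧ CohB1.support M = (U : Set X)ᶜ := by
  obtain ⟨I, hI, hIs, -⟩ := Groth.L18.IdealModule.exists_finiteType_of_isCompact U hU
  obtain ⟨H, p, hH, hp⟩ := Groth.L19.LimMod.exists_fp_epi (ClSub.idealMod I) (Groth.L18.IdealModule.isCoh_idealMod I hI)
  haveI := hp
  let g := p ≫ ClSub.idealModι I
  refine ⟨cokernel g, Groth.L19.FPExtend.isFP_cokernel hH (Groth.L19.FPExtend.isFP_structureModule X) g, ?_⟩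
  rw [← hIs]
  ext x
  obtain ⟨_, ⟨V, hV, rfl⟩, hxV, -⟩ :=
    X.isBasis_affineOpens.exists_subset_of_mem_open (Set.mem_univ x) isOpen_univ
  rw [mem_support_coker_iff, SetLike.mem_coe, Scheme.IdealSheafData.mem_support_iff_of_mem (U := ⟨V, hV⟩) hxV,
    Scheme.mem_zeroLocus_iff, not_iff_comm]
  push Not
  constructor
  · rintro ⟨a, ha, hxa⟩
    obtain ⟨m, hm⟩ := (Groth.L18.IdealModule.mem_ideal_iff I hV a).1 ha
    have hu : IsUnit (X.presheaf.germ V x hxV a) := (Scheme.mem_basicOpen X a x hxV).1 hxa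
    haveI : Epi ((Groth.L00.Stk.F X x).map p) := inferInstance
    obtain ⟨h', hh'⟩ := (ModuleCat.epi_iff_surjective ((Groth.L00.Stk.F X x).map p)).1 inferInstance
      ((ClSub.idealMod I).presheaf.germ V x hxV m)
    have hga : (Groth.L00.Stk.F X x).map g h' = (Ox X).presheaf.germ V x hxV a := by
      rw [Functor.map_comp]
      refine (congrArg ((Groth.L00.Stk.F X x).map (ClSub.idealModι I)) hh').trans ?_
      refine (stalk_app_germ (ClSub.idealModι I) hxV m).trans ?_
      exact congrArg _ hm
    intro b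
    obtain ⟨u', hu'⟩ := hu.exists_right_inv
    obtain ⟨W, hxW, c, rfl⟩ := (Ox X).presheaf.exists_germ_eq (x := x) b
    let r : X.presheaf.stalk x := u' * X.presheaf.germ W x hxW c
    refine ⟨r • h', ?_⟩
    rw [map_smul, hga, germ_ox x hxV a, germ_ox x hxW c, smul_smul]
    congr 1
    show u' * X.presheaf.germ W x hxW c * X.presheaf.germ V x hxV a = _
    rw [mul_comm, ← mul_assoc, hu', one_mul]
  · intro hs
    obtain ⟨h', hh'⟩ := hs ((Ox X).presheaf.germ V x hxV (one₁ V))
    obtain ⟨m, hm⟩ := Groth.L17.QCohGab.exists_mult (F := ClSub.idealMod I) ⟨V, hV⟩ hxV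
      ((Groth.L00.Stk.F X x).map p h')
    obtain ⟨r, hr⟩ := Submodule.mem_span_singleton.1 hm
    refine ⟨(ClSub.idealModι I).app V m, (Groth.L18.IdealModule.mem_ideal_iff I hV _).2 ⟨m, rfl⟩, ?_⟩
    rw [Scheme.mem_basicOpen X _ x hxV]
    rw [Functor.map_comp] at hh'
    change (Groth.L00.Stk.F X x).map (ClSub.idealModι I) ((Groth.L00.Stk.F X x).map p h') = _ at hh'
    rw [← hr, map_smul, stalk_app_germ, germ_ox, germ_ox, smul_smul] at hh'
    refine isUnit_iff_exists_inv'.2 ⟨r, ?_⟩
    exact ((Groth.L21.RR.bijective_smul_one x).1 hh').trans (map_one (X.presheaf.germ V x hxV).hom)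

end One

section Order

variable {A B : Type*} [TopologicalSpace A] [TopologicalSpace B] [QuasiSober A] [QuasiSober B] [T0Space A] [T0Space B]

/-- The point closure. -/
def clp (a : A) : Closeds A := ⟨closure {a}, isClosed_closure⟩

omit [QuasiSober A] [T0Space A] in
theorem clp_le {a : A} {Z : Closeds A} : clp a ≤ Z ↔ a ∈ (Z : Set A) :=
  ⟨fun h => h (subset_closure rfl), fun h => Z.isClosed.closure_subset_iff.2 (Set.singleton_subset_iff.2 h)⟩

omit [QuasiSober A] [QuasiSober B] [T0Space A] [T0Space B] in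
theorem isIrreducible_image (φ : Closeds A ≃o Closeds B) (b : B) :
    IsIrreducible (φ.symm (clp b) : Set A) := by
  refine ⟨Set.nonempty_iff_ne_empty.2 fun h => ?_, ?_⟩
  · have h1 : φ.symm (clp b) = ⊥ := SetLike.coe_injective h
    have h2 : clp b = (⊥ : Closeds B) := by rw [← φ.apply_symm_apply (clp b), h1, map_bot]
    exact Set.notMem_empty b (clp_le.1 h2.le)
  · rw [isPreirreducible_iff_isClosed_union_isClosed]
    intro z₁ z₂ h₁ h₂ hsub
    let Z₁ : Closeds A := ⟨z₁, h₁⟩
    let Z₂ : Closeds A := ⟨z₂, h₂⟩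
    have h : clp b ≤ φ (Z₁ ⊔ Z₂) := by
      rw [← φ.apply_symm_apply (clp b)]
      exact φ.monotone hsub
    rw [map_sup] at h
    rcases (clp_le.1 h : b ∈ (φ Z₁ : Set B) ∪ (φ Z₂ : Set B)) with hb | hb
    · exact Or.inl ((φ.symm_apply_le).2 (clp_le.2 hb) : φ.symm (clp b) ≤ Z₁)
    · exact Or.inr ((φ.symm_apply_le).2 (clp_le.2 hb) : φ.symm (clp b) ≤ Z₂)

/-- The point map. -/
def pointMap (φ : Closeds A ≃o Closeds B) (b : B) : A :=
  (isIrreducible_image φ b).genericPoint

omit [QuasiSober B] [T0Space A] [T0Space B] in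
theorem mem_iff (φ : Closeds A ≃o Closeds B) (b : B) (Z : Closeds A) :
    b ∈ (φ Z : Set B) ↔ pointMap φ b ∈ (Z : Set A) := by
  have h := (isIrreducible_image φ b).isGenericPoint_genericPoint (φ.symm (clp b)).isClosed
  rw [← clp_le, ← φ.symm_apply_le, ← clp_le]
  have e : clp (pointMap φ b) = φ.symm (clp b) := SetLike.coe_injective h.def
  rw [e]

theorem pointMap_pointMap (φ : Closeds A ≃o Closeds B) (b : B) : pointMap φ.symm (pointMap φ b) = b := by
  have key : ∀ W : Closeds B, pointMap φ.symm (pointMap φ b) ∈ (W : Set B) ↔ b ∈ (W : Set B) := fun W => by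
    rw [← mem_iff φ.symm, ← mem_iff φ, φ.apply_symm_apply]
  refine (Specializes.antisymm (specializes_iff_mem_closure.2 ?_) (specializes_iff_mem_closure.2 ?_)).eq
  · exact (key (clp (pointMap φ.symm (pointMap φ b)))).1 (subset_closure rfl)
  · exact (key (clp b)).2 (subset_closure rfl)

/-- Order isomorphisms of closed sets come from homeomorphisms. -/
def homeo (φ : Closeds A ≃o Closeds B) : B ≃ₜ A where
  toFun := pointMap φ
  invFun := pointMap φ.symm
  left_inv := pointMap_pointMap φ
  right_inv a := by simpa using pointMap_pointMap φ.symm a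
  continuous_toFun := continuous_iff_isClosed.2 fun s hs => by
    rw [show pointMap φ ⁻¹' s = (φ ⟨s, hs⟩ : Set B) from (Set.ext fun b => mem_iff φ b ⟨s, hs⟩).symm]
    exact (φ ⟨s, hs⟩).isClosed
  continuous_invFun := continuous_iff_isClosed.2 fun s hs => by
    rw [show pointMap φ.symm ⁻¹' s = (φ.symm ⟨s, hs⟩ : Set A) from
      (Set.ext fun b => mem_iff φ.symm b ⟨s, hs⟩).symm]
    exact (φ.symm ⟨s, hs⟩).isClosed

end Order

variable {X Y : Scheme.{u}} [CompactSpace X] [QuasiSeparatedSpace X] [CompactSpace Y] [QuasiSeparatedSpace Y]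

/-- A compact open avoiding a closed set, around a point outside. -/
theorem exists_fp_avoid {Z : Set X} (hZ : IsClosed Z) {x : X} (hx : x ∉ Z) :
    ∃ G : QC X, CohB1.IsFP G.obj ∧ Z ⊆ CohB1.support G.obj ∧ x ∉ CohB1.support G.obj := by
  obtain ⟨_, ⟨V, hV, rfl⟩, hxV, hVZ⟩ :=
    X.isBasis_affineOpens.exists_subset_of_mem_open (show x ∈ Zᶜ from hx) hZ.isOpen_compl
  obtain ⟨M, hM, hs⟩ := exists_fp_support V hV.isCompact
  exact ⟨⟨M, Groth.L05.Prufer.isQCoh_of_isFP hM⟩, hM, hs ▸ Set.subset_compl_comm.1 hVZ,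
    fun h => (hs ▸ h : x ∈ (V : Set X)ᶜ) hxV⟩

variable (E : QC X ≌ QC Y)

theorem isFP_map {G : QC X} (h : CohB1.IsFP G.obj) : CohB1.IsFP (E.functor.obj G).obj := by
  haveI := Groth.L17.QCohGab.isFinitelyPresentable_of_isFP X G h
  haveI : Fact Cardinal.aleph0.{u}.IsRegular := ⟨Cardinal.isRegular_aleph0⟩
  haveI : IsFinitelyPresentable.{u} (E.functor.obj G) := isCardinalPresentable_of_equivalence G Cardinal.aleph0.{u} E
  exact Groth.L17.QCohGab.isFP_of_isFinitelyPresentable Y _

theorem additive_functor : E.functor.Additive := by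
  haveI : HasBinaryBiproducts (QC X) := HasBinaryBiproducts.of_hasBinaryProducts
  exact Functor.additive_of_preserves_binary_products E.functor

theorem map_shortExact {A B C : QC X} (f : A ⟶ B) (g : B ⟶ C) (w : f.hom ≫ g.hom = 0)
    (hS : (ShortComplex.mk f.hom g.hom w).ShortExact) :
    ∃ w', (ShortComplex.mk (E.functor.map f).hom (E.functor.map g).hom w').ShortExact := by
  haveI := additive_functor E
  let S : ShortComplex (QC X) := ShortComplex.mk f g (ObjectProperty.hom_ext _ w)
  haveI : (QCohCat.isQCoh X).ι.Additive := inferInstance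
  have hS' : S.ShortExact :=
    { exact := (S.exact_map_iff_of_faithful (QCohCat.isQCoh X).ι).1 hS.exact
      mono_f := (QCohCat.isQCoh X).ι.mono_of_mono_map hS.mono_f
      epi_g := (QCohCat.isQCoh X).ι.epi_of_epi_map hS.epi_g }
  have h := (hS'.map_of_exact E.functor).map_of_exact (QCohCat.isQCoh Y).ι
  exact ⟨((S.map E.functor).map (QCohCat.isQCoh Y).ι).zero, h⟩

theorem support_sigma_subset {ι : Type u} (M : ι → X.Modules) (c : Cofan M) (hc : IsColimit c) {T : Set X}
    (h : ∀ i, CohB1.support (M i) ⊆ T) : CohB1.support c.pt ⊆ T := by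
  intro x hx
  by_contra hxT
  have hz : 𝟙 ((Groth.L00.Stk.F X x).obj c.pt) = 0 :=
    (isColimitOfPreserves (Groth.L00.Stk.F X x) hc).hom_ext fun j => by
      haveI : Subsingleton ((Groth.L00.Stk.F X x).obj (M j.as)) := not_not.1 fun hn => hxT (h j.as hn)
      exact ModuleCat.hom_ext (LinearMap.ext fun a => by
        rw [show a = 0 from @Subsingleton.elim _ ‹Subsingleton ((Groth.L00.Stk.F X x).obj (M j.as))› _ _, map_zero, map_zero])
  exact hx (subsingleton_of_forall_eq 0 fun a => congr($hz a))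

/-- Inclusions of supports go along. -/
theorem support_map_subset {G : QC X} (hG : CohB1.IsFP G.obj) {N : QC X}
    (h : CohB1.support N.obj ⊆ CohB1.support G.obj) :
    CohB1.support (E.functor.obj N).obj ⊆ CohB1.support (E.functor.obj G).obj := by
  let Q : ObjectProperty X.Modules := fun A =>
    ∀ hA : QCohCat.isQCoh X A, CohB1.support (E.functor.obj ⟨A, hA⟩).obj ⊆ CohB1.support (E.functor.obj G).obj
  have hQ : IsClass Q := by
    refine ⟨fun S hS h₁ h₂ h₃ => ?_, fun ι M hq hM hc => ?_⟩
    · obtain ⟨w', hS'⟩ := map_shortExact E (ObjectProperty.homMk S.f : (⟨S.X₁, h₁⟩ : QC X) ⟶ ⟨S.X₂, h₂⟩)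
        (ObjectProperty.homMk S.g : (⟨S.X₂, h₂⟩ : QC X) ⟶ ⟨S.X₃, h₃⟩) S.zero hS
      have e := Groth.L21.Mod.support_of_shortExact hS'
      dsimp only at e
      refine ⟨fun H => ⟨fun _ => (e ▸ Set.subset_union_left).trans (H h₂), fun _ => (e ▸ Set.subset_union_right).trans (H h₂)⟩,
        fun H _ => e ▸ Set.union_subset (H.1 h₁) (H.2 h₃)⟩
    · let c : Cofan (fun i => (⟨M i, hq i⟩ : QC X)) :=
        Cofan.mk ⟨∐ M, hc⟩ fun i => ObjectProperty.homMk (Sigma.ι M i)
      have hc₁ : IsColimit ((QCohCat.isQCoh X).ι.mapCocone c) :=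
        (isColimitMapCoconeCofanMkEquiv (QCohCat.isQCoh X).ι _ _).symm (coproductIsCoproduct M)
      have hc₂ : IsColimit c := isColimitOfReflects _ hc₁
      have h3 := isColimitCofanMkObjOfIsColimit (QCohCat.isQCoh Y).ι _ _
        (isColimitCofanMkObjOfIsColimit E.functor _ _ hc₂)
      exact support_sigma_subset _ _ h3 fun i => hM i (hq i)
  exact hQ.of_support (qcoh G) hG (fun _ => subset_rfl) (qcoh N) h N.property

theorem support_congr_obj {A B : QC X} (e : A ≅ B) : CohB1.support A.obj = CohB1.support B.obj :=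
  Groth.L21.Mod.support_congr ((QCohCat.isQCoh X).ι.mapIso e)

theorem support_back {G : QC X} {H : QC Y} (hH : CohB1.IsFP H.obj)
    (h : CohB1.support (E.functor.obj G).obj ⊆ CohB1.support H.obj) :
    CohB1.support G.obj ⊆ CohB1.support (E.inverse.obj H).obj := by
  rw [show CohB1.support G.obj = CohB1.support (E.inverse.obj (E.functor.obj G)).obj from support_congr_obj (E.unitIso.app G)]
  exact support_map_subset E.symm hH h

/-- The image of a closed set. -/
def imageClosed (C : Closeds X) : Closeds Y :=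
  ⨅ (G : {G : QC X // CohB1.IsFP G.obj ∧ (C : Set X) ⊆ CohB1.support G.obj}),
    ⟨CohB1.support (E.functor.obj G.1).obj, isClosed_support_of_isFP (isFP_map E G.2.1)⟩

theorem mem_imageClosed {C : Closeds X} {y : Y} :
    y ∈ (imageClosed E C : Set Y) ↔ ∀ G : QC X, CohB1.IsFP G.obj → (C : Set X) ⊆ CohB1.support G.obj →
      y ∈ CohB1.support (E.functor.obj G).obj := by
  simp [imageClosed, Subtype.forall]

theorem imageClosed_mono {C D : Closeds X} (h : C ≤ D) : imageClosed E C ≤ imageClosed E D := fun y hy =>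
  (mem_imageClosed E).2 fun G hG hs => (mem_imageClosed E).1 hy G hG (le_trans h hs)

theorem imageClosed_support {G : QC X} (hG : CohB1.IsFP G.obj) :
    (imageClosed E ⟨CohB1.support G.obj, isClosed_support_of_isFP hG⟩ : Set Y) =
      CohB1.support (E.functor.obj G).obj :=
  subset_antisymm (fun _ hy => (mem_imageClosed E).1 hy G hG subset_rfl) fun _ hy =>
    (mem_imageClosed E).2 fun _ hG' hs => support_map_subset E hG' hs hy

theorem imageClosed_imageClosed (C : Closeds X) : imageClosed E.symm (imageClosed E C) = C := by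
  refine SetLike.coe_injective (subset_antisymm (fun x hx => ?_) (fun x hx => (mem_imageClosed E.symm).2 fun H hH hs => ?_))
  · by_contra hxC
    obtain ⟨G, hG, hCG, hxG⟩ := exists_fp_avoid C.isClosed hxC
    refine hxG ?_
    rw [show CohB1.support G.obj = CohB1.support (E.inverse.obj (E.functor.obj G)).obj from support_congr_obj (E.unitIso.app G)]
    exact (mem_imageClosed E.symm).1 hx (E.functor.obj G) (isFP_map E hG)
      fun y hy => (mem_imageClosed E).1 hy G hG hCG
  · let J := {G : QC X // CohB1.IsFP G.obj ∧ (C : Set X) ⊆ CohB1.support G.obj}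
    obtain ⟨t, ht⟩ := (isCompact_compl_support hH).elim_finite_subcover
      (fun G : J => (CohB1.support (E.functor.obj G.1).obj)ᶜ)
      (fun G => (isClosed_support_of_isFP (isFP_map E G.2.1)).isOpen_compl) fun y hy => by
        by_contra hn
        simp only [Set.mem_iUnion, not_exists, Set.mem_compl_iff, not_not] at hn
        exact hy (hs ((mem_imageClosed E).2 fun G hG h => hn ⟨G, hG, h⟩))
    let U : X.Opens := ⟨⋃ G ∈ t, (CohB1.support G.1.obj)ᶜ,
      isOpen_biUnion fun G _ => (isClosed_support_of_isFP G.2.1).isOpen_compl⟩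
    obtain ⟨M, hM, hMs⟩ := exists_fp_support U (t.finite_toSet.isCompact_biUnion fun G _ => isCompact_compl_support G.2.1)
    let G₀ : QC X := ⟨M, Groth.L05.Prufer.isQCoh_of_isFP hM⟩
    have h₀ : ∀ G ∈ t, CohB1.support G₀.obj ⊆ CohB1.support G.1.obj := fun G hG z hz => by
      by_contra hn
      exact (hMs ▸ hz : z ∈ (U : Set X)ᶜ) (Set.mem_biUnion hG hn)
    refine support_back E hH (fun y hy => ?_) (show x ∈ CohB1.support G₀.obj from ?_)
    · by_contra hn
      obtain ⟨G, hG, hyG⟩ := Set.mem_iUnion₂.1 (ht hn)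
      exact hyG (support_map_subset E G.2.1 (h₀ G hG) hy)
    · rw [hMs]
      intro hxU
      obtain ⟨G, -, hxG⟩ := Set.mem_iUnion₂.1 hxU
      exact hxG (G.2.2 hx)

/-- The order isomorphism on closed sets. -/
def closedsIso : Closeds X ≃o Closeds Y where
  toFun := imageClosed E
  invFun := imageClosed E.symm
  left_inv := imageClosed_imageClosed E
  right_inv := imageClosed_imageClosed E.symm
  map_rel_iff' {C D} := ⟨fun h => by
    rw [← imageClosed_imageClosed E C, ← imageClosed_imageClosed E D]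
    exact imageClosed_mono E.symm h, imageClosed_mono E⟩

/-- The homeomorphism. -/
def homeoOfEquiv : Y ≃ₜ X := homeo (closedsIso E)

theorem support_map_fp {G : QC X} (hG : CohB1.IsFP G.obj) :
    CohB1.support (E.functor.obj G).obj = homeoOfEquiv E ⁻¹' CohB1.support G.obj := by
  rw [← imageClosed_support E hG]
  exact Set.ext fun y => mem_iff (closedsIso E) y _

theorem not_mem_map {x : X} {y : Y}
    (hxy : ∀ G : QC X, CohB1.IsFP G.obj → (y ∈ CohB1.support (E.functor.obj G).obj ↔ x ∈ CohB1.support G.obj))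
    {A : QC X} (hx : x ∉ CohB1.support A.obj) : y ∉ CohB1.support (E.functor.obj A).obj := by
  haveI := additive_functor E
  intro hy
  obtain ⟨_, ⟨V, hV, rfl⟩, hyV, -⟩ :=
    Y.isBasis_affineOpens.exists_subset_of_mem_open (Set.mem_univ y) isOpen_univ
  obtain ⟨m, hm⟩ := nonempty_affine_sections (qcoh (E.functor.obj A)) hV hyV hy
  haveI := qcoh (E.functor.obj A)
  obtain ⟨P', f, hP', p, hp⟩ := Groth.L19.FPExtend.exists_fp_hit (E.functor.obj A).obj V hV.isCompact m
  let P : QC Y := ⟨P', Groth.L05.Prufer.isQCoh_of_isFP hP'⟩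
  let g : E.inverse.obj P ⟶ A :=
    E.inverse.map (ObjectProperty.homMk f : P ⟶ E.functor.obj A) ≫ (E.unitIso.app A).inv
  let I : QC X := ⟨Abelian.image g.hom, isQCoh_image g.hom (qcoh _) (qcoh A)⟩
  have hIft : CohB1.IsFT I.obj :=
    Groth.L17.Approx.isFT_of_epi (Abelian.factorThruImage g.hom) (isFT_of_isFP (isFP_map E.symm (G := P) hP'))
  obtain ⟨G, hG, hIG, hxG⟩ := exists_fp_avoid (isClosed_support_of_isFT (qcoh I) hIft)
    fun h => hx (support_image_subset g.hom h)
  have hyI : y ∉ CohB1.support (E.functor.obj I).obj := fun h => hxG ((hxy G hG).1 (support_map_subset E hG hIG h))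
  haveI : Subsingleton ((Groth.L00.Stk.F Y y).obj (E.functor.obj I).obj) := not_not.1 hyI
  let g₁ : E.inverse.obj P ⟶ I := ObjectProperty.homMk (Abelian.factorThruImage g.hom)
  let g₂ : I ⟶ A := ObjectProperty.homMk (Abelian.image.ι g.hom)
  have hg : g₁ ≫ g₂ = g := ObjectProperty.hom_ext _ (Abelian.image.fac g.hom)
  have hf : (ObjectProperty.homMk f : P ⟶ E.functor.obj A) = (E.counitIso.app P).inv ≫ E.functor.map g := by
    simp [g]
  rw [← hg, Functor.map_comp, ← Category.assoc] at hf
  refine hm ?_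
  rw [← hp, ← stalk_app_germ f hyV p]
  rw [show f = ((E.counitIso.app P).inv ≫ E.functor.map g₁).hom ≫ (E.functor.map g₂).hom from congrArg (·.hom) hf,
    Functor.map_comp]
  show (Groth.L00.Stk.F Y y).map (E.functor.map g₂).hom _ = 0
  exact (congrArg _ (Subsingleton.elim (α := (Groth.L00.Stk.F Y y).obj (E.functor.obj I).obj) _ 0)).trans
    (map_zero _)

theorem support_map (A : QC X) :
    CohB1.support (E.functor.obj A).obj = homeoOfEquiv E ⁻¹' CohB1.support A.obj := by
  ext y
  refine ⟨fun hy => ?_, fun hy => ?_⟩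
  · by_contra hn
    exact not_mem_map E (fun G hG => by rw [support_map_fp E hG]; rfl) hn hy
  · by_contra hn
    refine not_mem_map E.symm (x := y) (y := homeoOfEquiv E y) (fun H hH => ?_) (A := E.functor.obj A) hn ?_
    · have h1 := support_map_fp E (G := E.inverse.obj H) (isFP_map E.symm hH)
      rw [show CohB1.support (E.functor.obj (E.inverse.obj H)).obj = CohB1.support H.obj from
        support_congr_obj (E.counitIso.app H)] at h1
      rw [h1]
      rfl
    · exact (support_congr_obj (E.unitIso.app A)).le hy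

end Groth.L07.GabQ
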