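import Groth.Agent.L07.GabQ.Homeo
import Groth.Agent.L07.BvdB.PointSky
import Groth.Agent.L20.FibreModuleScheme
import Groth.Agent.L20.FibreFree
import Groth.Agent.L21.Bundle.Lines
import Groth.Agent.L15.Ref.Stalk
import Groth.Agent.L17.PullBasis
import Groth.Agent.L17.FinLocBases

/-! An equivalence of quasi-coherent modules sends the structure sheaf to a line bundle. -/

set_option autoImplicit false
set_option linter.style.haveILetI false
set_option linter.unusedSectionVars false
set_option backward.defeqAttrib.useBackward true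
set_option backward.isDefEq.respectTransparency false
set_option backward.isDefEq.respectTransparency.types false

universe u
open CategoryTheory CategoryTheory.Limits AlgebraicGeometry TopologicalSpace Opposite
open IsLocalRing

noncomputable section

namespace Groth.L07.GabQ

open Groth.L07.BvdB.PointSky Groth.L00.Sky

variable {X Y : Scheme.{u}}

local notation "κ(" x ")" => Groth.L21.RR.resMod x

/-- Linear maps of stalks correspond to maps to the point. -/
def ptc (x : X) : (Groth.L00.Stk.F X x).obj (pt x) ≅ κ(x) := (nonempty_stalk_iso x).some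

theorem exists_of_stalk {M : X.Modules} {x : X} (φ : (Groth.L00.Stk.F X x).obj M ⟶ κ(x)) :
    ∃ p : M ⟶ pt x, (Groth.L00.Stk.F X x).map p ≫ (ptc x).hom = φ := by
  obtain ⟨e⟩ := nonempty_iso_sky x
  let c : (Groth.L00.Stk.F X x).obj (pt x) ≅ κ(x) :=
    (Groth.L00.Stk.F X x).mapIso e ≪≫ (counitIso x).app _
  refine ⟨(adj x).homEquiv _ _ (φ ≫ (ptc x).inv ≫ c.hom) ≫ e.inv, ?_⟩
  rw [← cancel_mono ((ptc x).inv ≫ c.hom)]
  simp only [Category.assoc, Iso.hom_inv_id_assoc]
  show _ ≫ (Groth.L00.Stk.F X x).map e.hom ≫ (adj x).counit.app _ = _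
  rw [← Category.assoc, ← Functor.map_comp, Category.assoc, Iso.inv_hom_id, Category.comp_id]
  exact (Adjunction.homEquiv_counit _ _ _ _).symm.trans (Equiv.symm_apply_apply _ _)

theorem map_injective_pt {M : X.Modules} {x : X} {p q : M ⟶ pt x}
    (h : (Groth.L00.Stk.F X x).map p = (Groth.L00.Stk.F X x).map q) : p = q := by
  obtain ⟨e⟩ := nonempty_iso_sky x
  refine (cancel_mono e.hom).1 (((adj x).homEquiv _ _).symm.injective ?_)
  rw [Adjunction.homEquiv_counit, Adjunction.homEquiv_counit, Functor.map_comp, Functor.map_comp, h]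

theorem epi_to_pt {M : X.Modules} {x : X} (hx : IsClosed ({x} : Set X)) (p : M ⟶ pt x)
    (h : Function.Surjective ((Groth.L00.Stk.F X x).map p)) : Epi p := by
  rw [Groth.L21.Mod.epi_iff_stalk_surjective]
  intro y
  by_cases hy : y = x
  · subst hy; exact h
  · haveI : Subsingleton ((pt x).presheaf.stalk y) :=
      subsingleton_of_not_mem fun hm => hy (support_pt_subset hx hm)
    exact fun t => ⟨0, @Subsingleton.elim _ (subsingleton_of_not_mem fun hm => hy (support_pt_subset hx hm)) _ _⟩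

theorem surjective_of_ne_zero {M : X.Modules} {x : X} (p : M ⟶ pt x) (hp : p ≠ 0) :
    Function.Surjective ((Groth.L00.Stk.F X x).map p) := by
  haveI : IsSimpleModule (X.presheaf.stalk x) ((Groth.L00.Stk.F X x).obj (pt x)) :=
    isSimpleModule_iff_quot_maximal.2 ⟨maximalIdeal _, inferInstance, ⟨(ptc x).toLinearEquiv⟩⟩
  refine (LinearMap.surjective_or_eq_zero ((Groth.L00.Stk.F X x).map p).hom).resolve_right fun h => hp ?_
  refine map_injective_pt (ModuleCat.hom_ext ?_)
  rw [h, Functor.map_zero]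
  rfl

theorem mem_support_pt (x : X) : x ∈ CohB1.support (pt x) := fun h => by
  haveI : Subsingleton ((Groth.L00.Stk.F X x).obj (pt x)) := h
  have h2 := (ptc x).toLinearEquiv.symm.toEquiv.subsingleton
  exact not_nontrivial_iff_subsingleton.2 h2 (inferInstanceAs (Nontrivial (ResidueField (X.presheaf.stalk x))))

theorem mono_from_pt {x : X} (hx : IsClosed ({x} : Set X)) {M : X.Modules} (p : pt x ⟶ M) (hp : p ≠ 0) : Mono p := by
  rw [Groth.L21.Mod.mono_iff_stalk_injective]
  intro y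
  by_cases hy : y = x
  · subst hy
    haveI : IsSimpleModule (X.presheaf.stalk y) ((Groth.L00.Stk.F X y).obj (pt y)) :=
      isSimpleModule_iff_quot_maximal.2 ⟨maximalIdeal _, inferInstance, ⟨(ptc y).toLinearEquiv⟩⟩
    refine (LinearMap.injective_or_eq_zero ((Groth.L00.Stk.F X y).map p).hom).resolve_right fun h => hp ?_
    refine Groth.L21.Mod.hom_ext_stalk fun z => AddCommGrpCat.hom_ext (AddMonoidHom.ext fun s => ?_)
    by_cases hz : z = y
    · subst hz
      rw [Functor.map_zero]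
      exact congr($h s)
    · haveI : Subsingleton ((pt y).presheaf.stalk z) :=
        subsingleton_of_not_mem fun hm => hz (support_pt_subset hx hm)
      rw [show s = 0 from @Subsingleton.elim _ ‹Subsingleton ((pt y).presheaf.stalk z)› _ _, map_zero, map_zero]
  · intro a b _
    exact @Subsingleton.elim _ (subsingleton_of_not_mem fun hm => hy (support_pt_subset hx hm)) a b

theorem isQCoh_pt {x : X} (hx : IsClosed ({x} : Set X)) : Coh.IsQCoh (pt x) := by
  haveI : IsClosedImmersion (X.fromSpecResidueField x) := isClosed_singleton_iff_isClosedImmersion.mp hx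
  haveI : Coh.IsQCoh (Coh.structureModule (Spec (X.residueField x))) := Groth.L19.Conormal.isQCoh_structureModule _
  exact Groth.L16.QcqsPush.isQCoh_push _ (X.fromSpecResidueField x)

/-- The point as a quasi-coherent module. -/
abbrev S {x : X} (hx : IsClosed ({x} : Set X)) : QC X := ⟨pt x, isQCoh_pt hx⟩

/-- The structure sheaf as an object. -/
abbrev OQ (X : Scheme.{u}) : QC X := ⟨Ox X, Groth.L19.Conormal.isQCoh_structureModule _⟩

theorem exists_hom_pt {M : X.Modules} {x : X}
    (hfin : Module.Finite (X.presheaf.stalk x) ((Groth.L00.Stk.F X x).obj M)) (hx : x ∈ CohB1.support M) :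
    ∃ p : M ⟶ pt x, p ≠ 0 := by
  haveI := hfin
  haveI : Nontrivial ((Groth.L00.Stk.F X x).obj M) := not_subsingleton_iff_nontrivial.1 hx
  obtain ⟨K, hK⟩ : ∃ K : Submodule (X.presheaf.stalk x) ((Groth.L00.Stk.F X x).obj M), IsCoatom K :=
    (IsCoatomic.eq_top_or_exists_le_coatom ⊥).elim (fun h => absurd h bot_ne_top) fun ⟨K, hK, _⟩ => ⟨K, hK⟩
  haveI : IsSimpleModule (X.presheaf.stalk x) (((Groth.L00.Stk.F X x).obj M) ⧸ K) :=
    isSimpleModule_iff_isCoatom.2 hK
  obtain ⟨J, hJ, ⟨eJ⟩⟩ := isSimpleModule_iff_quot_maximal.1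
    (‹IsSimpleModule (X.presheaf.stalk x) (((Groth.L00.Stk.F X x).obj M) ⧸ K)›)
  obtain rfl : J = maximalIdeal (X.presheaf.stalk x) := IsLocalRing.eq_maximalIdeal hJ
  let α : (Groth.L00.Stk.F X x).obj M ⟶ κ(x) := ModuleCat.ofHom (eJ.toLinearMap.comp K.mkQ)
  obtain ⟨p, hp⟩ := exists_of_stalk α
  refine ⟨p, fun h => hK.1 (eq_top_iff.2 fun m _ => (Submodule.Quotient.mk_eq_zero K).1
    ((LinearEquiv.map_eq_zero_iff eJ).1 ?_))⟩
  have h1 : α = 0 := by rw [← hp, h, Functor.map_zero, zero_comp]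
  exact congr($(h1) m)

/-- Cyclic at a closed point. -/
def Cyc (M : QC X) {x : X} (hx : IsClosed ({x} : Set X)) : Prop :=
  ∃ p₀ : M ⟶ S hx, Epi p₀.hom ∧ ∀ p : M ⟶ S hx, ∃ e : S hx ⟶ S hx, p = p₀ ≫ e

theorem Cyc.map (E : QC X ≌ QC Y) {M : QC X} {x : X} {hx : IsClosed ({x} : Set X)} {y : Y}
    {hy : IsClosed ({y} : Set Y)} (i : E.functor.obj (S hx) ≅ S hy) (h : Cyc M hx) : Cyc (E.functor.obj M) hy := by
  obtain ⟨p₀, he, hp⟩ := h
  haveI : Epi p₀ := ((QCohCat.isQCoh X).ι).epi_of_epi_map he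
  refine ⟨E.functor.map p₀ ≫ i.hom, inferInstanceAs (Epi (((QCohCat.isQCoh Y).ι).map
    (E.functor.map p₀ ≫ i.hom))), fun p => ?_⟩
  obtain ⟨q, hq⟩ := E.functor.map_surjective (p ≫ i.inv)
  obtain ⟨e, rfl⟩ := hp q
  refine ⟨i.inv ≫ E.functor.map e ≫ i.hom, ?_⟩
  rw [Category.assoc, Iso.hom_inv_id_assoc, ← Category.assoc, ← E.functor.map_comp, hq, Category.assoc,
    Iso.inv_hom_id, Category.comp_id]

theorem Cyc.of_iso {M N : QC X} (e : M ≅ N) {x : X} {hx : IsClosed ({x} : Set X)} (h : Cyc M hx) : Cyc N hx := by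
  obtain ⟨p₀, he, hp⟩ := h
  haveI := he
  haveI : IsIso e.inv.hom := inferInstanceAs (IsIso (((QCohCat.isQCoh X).ι).map e.inv))
  refine ⟨e.inv ≫ p₀, inferInstanceAs (Epi (e.inv.hom ≫ p₀.hom)), fun p => ?_⟩
  obtain ⟨j, hj⟩ := hp (e.hom ≫ p)
  exact ⟨j, by rw [Category.assoc, ← hj, Iso.inv_hom_id_assoc]⟩

theorem cyc_of_gen (M : QC X) {x : X} (hx : IsClosed ({x} : Set X)) (v : (Groth.L00.Stk.F X x).obj M.obj)
    (hv : Submodule.span (X.presheaf.stalk x) {v} = ⊤)
    (φ₀ : (Groth.L00.Stk.F X x).obj M.obj →ₗ[X.presheaf.stalk x] ResidueField (X.presheaf.stalk x))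
    (h₀ : φ₀ v = 1) : Cyc M hx := by
  obtain ⟨p₀, hp₀⟩ := exists_of_stalk (x := x) (ModuleCat.ofHom φ₀ : _ ⟶ κ(x))
  have hs : Function.Surjective ((Groth.L00.Stk.F X x).map p₀) := by
    intro t
    obtain ⟨r, hr⟩ := Ideal.Quotient.mk_surjective ((ptc x).hom t : ResidueField (X.presheaf.stalk x))
    refine ⟨r • v, (ptc x).toLinearEquiv.injective ?_⟩
    refine ((ConcreteCategory.congr_hom hp₀ (r • v)).trans ?_)
    show φ₀ (r • v) = (ptc x).hom t
    rw [map_smul, h₀, ← hr, Algebra.smul_def, mul_one]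
    rfl
  refine ⟨ObjectProperty.homMk p₀, epi_to_pt hx p₀ hs, fun p => ?_⟩
  obtain ⟨r, hr⟩ := Ideal.Quotient.mk_surjective
    ((ptc x).hom ((Groth.L00.Stk.F X x).map p.hom v) : ResidueField (X.presheaf.stalk x))
  obtain ⟨e, he⟩ := exists_of_stalk (x := x) ((ptc x).hom ≫
    (ModuleCat.ofHom (r • LinearMap.id) : κ(x) ⟶ κ(x)))
  refine ⟨ObjectProperty.homMk e, ObjectProperty.hom_ext _ (map_injective_pt ?_)⟩
  show (Groth.L00.Stk.F X x).map p.hom = (Groth.L00.Stk.F X x).map (p₀ ≫ e)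
  rw [← cancel_mono (ptc x).hom, Functor.map_comp, Category.assoc, he, ← Category.assoc, hp₀]
  refine ModuleCat.hom_ext (LinearMap.ext_on hv ?_)
  intro m hm
  rw [Set.mem_singleton_iff] at hm
  subst m
  show (ptc x).hom ((Groth.L00.Stk.F X x).map p.hom v) = r • φ₀ v
  rw [h₀, ← hr, Algebra.smul_def, mul_one]
  rfl

theorem Cyc.exists_gen {M : QC X} {x : X} {hx : IsClosed ({x} : Set X)} (h : Cyc M hx)
    (hfin : Module.Finite (X.presheaf.stalk x) ((Groth.L00.Stk.F X x).obj M.obj)) :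
    ∃ v : (Groth.L00.Stk.F X x).obj M.obj, Submodule.span (X.presheaf.stalk x) {v} = ⊤ := by
  obtain ⟨p₀, he, hp⟩ := h
  let R := X.presheaf.stalk x
  haveI : Module.Finite R ((Groth.L00.Stk.F X x).obj M.obj) := hfin
  let φ₀ := (Groth.L00.Stk.F X x).map p₀.hom ≫ (ptc x).hom
  have h₀ : Function.Surjective φ₀ := by
    haveI := he
    haveI : Epi ((Groth.L00.Stk.F X x).map p₀.hom) := inferInstance
    exact (ModuleCat.epi_iff_surjective _).1 inferInstance
  obtain ⟨v, hv⟩ := h₀ (1 : ResidueField R)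
  refine ⟨v, ?_⟩
  rcases IsCoatomic.eq_top_or_exists_le_coatom (Submodule.span R {v}) with h | ⟨K, hK, hvK⟩
  · exact h
  exfalso
  haveI : IsSimpleModule R (_ ⧸ K) := isSimpleModule_iff_isCoatom.2 hK
  obtain ⟨J, hJ, ⟨eJ⟩⟩ := isSimpleModule_iff_quot_maximal.1 (‹IsSimpleModule R (_ ⧸ K)›)
  obtain rfl : J = maximalIdeal R := IsLocalRing.eq_maximalIdeal hJ
  obtain ⟨p, hpe⟩ := exists_of_stalk (x := x) (ModuleCat.ofHom (eJ.toLinearMap.comp K.mkQ) : _ ⟶ κ(x))
  obtain ⟨e, hee⟩ := hp (ObjectProperty.homMk p)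
  have hle : ∀ m, φ₀ m = 0 → m ∈ K := fun m hm => by
    have h1 : (Groth.L00.Stk.F X x).map p₀.hom m = 0 := (ptc x).toLinearEquiv.map_eq_zero_iff.1 hm
    have h2 : (ptc x).hom ((Groth.L00.Stk.F X x).map p m) = 0 := by
      rw [show p = p₀.hom ≫ e.hom from congrArg (·.hom) hee, Functor.map_comp]
      show (ptc x).hom ((Groth.L00.Stk.F X x).map e.hom ((Groth.L00.Stk.F X x).map p₀.hom m)) = 0
      rw [h1, map_zero, map_zero]
    have h3 : eJ (K.mkQ m) = 0 := (ConcreteCategory.congr_hom hpe m).symm.trans h2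
    exact (Submodule.Quotient.mk_eq_zero K).1 (eJ.map_eq_zero_iff.1 h3)
  refine hK.1 (eq_top_iff.2 fun m _ => ?_)
  obtain ⟨r, hr⟩ := Ideal.Quotient.mk_surjective (φ₀ m : ResidueField R)
  have h1 : φ₀ (m - r • v) = 0 := by
    rw [map_sub, map_smul, hv, ← hr, sub_eq_zero]
    show _ = r • (1 : ResidueField R)
    rw [Algebra.smul_def, mul_one]
    rfl
  simpa using K.add_mem (hle _ h1) (K.smul_mem r (hvK (Submodule.mem_span_singleton_self v)))

variable [CompactSpace X] [QuasiSeparatedSpace X] [CompactSpace Y] [QuasiSeparatedSpace Y] (E : QC X ≌ QC Y)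

attribute [local irreducible] homeoOfEquiv

theorem surjective_map_iff {A B : QC X} (g : A ⟶ B) (y : Y) :
    Function.Surjective ((Groth.L00.Stk.F Y y).map (E.functor.map g).hom) ↔
      Function.Surjective ((Groth.L00.Stk.F X (homeoOfEquiv E y)).map g.hom) := by
  haveI := additive_functor E
  rw [← not_iff_not, ← mem_support_coker_iff, ← mem_support_coker_iff]
  have e₁ : CohB1.support (cokernel g).obj = CohB1.support (cokernel g.hom) :=
    Groth.L21.Mod.support_congr (PreservesCokernel.iso (QCohCat.isQCoh X).ι g)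
  have e₂ : CohB1.support (E.functor.obj (cokernel g)).obj = CohB1.support (cokernel (E.functor.map g).hom) :=
    Groth.L21.Mod.support_congr ((QCohCat.isQCoh Y).ι.mapIso (PreservesCokernel.iso E.functor g) ≪≫
      PreservesCokernel.iso (QCohCat.isQCoh Y).ι (E.functor.map g))
  rw [← e₁, ← e₂, support_map E]
  rfl

theorem injective_map_iff {A B : QC X} (g : A ⟶ B) (y : Y) :
    Function.Injective ((Groth.L00.Stk.F Y y).map (E.functor.map g).hom) ↔
      Function.Injective ((Groth.L00.Stk.F X (homeoOfEquiv E y)).map g.hom) := by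
  haveI := additive_functor E
  have key : ∀ {Z : Scheme.{u}} {M N : Z.Modules} (f : M ⟶ N) (z : Z),
      Function.Injective ((Groth.L00.Stk.F Z z).map f) ↔ z ∉ CohB1.support (kernel f) := by
    intro Z M N f z
    have hι : Function.Injective ((Groth.L00.Stk.F Z z).map (kernel.ι f)) :=
      (ModuleCat.mono_iff_injective _).1 inferInstance
    have hS := ((ShortComplex.exact_kernel f).map (Groth.L00.Stk.F Z z)).moduleCat_range_eq_ker
    refine ⟨fun h => not_not.2 ⟨fun a b => hι (h ?_)⟩, fun h => ?_⟩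
    · exact (LinearMap.mem_ker.1 (hS.le ⟨a, rfl⟩)).trans (LinearMap.mem_ker.1 (hS.le ⟨b, rfl⟩)).symm
    · refine (injective_iff_map_eq_zero ((Groth.L00.Stk.F Z z).map f).hom).2 fun m hm => ?_
      obtain ⟨a, rfl⟩ := hS.ge (LinearMap.mem_ker.2 hm)
      rw [show a = 0 from @Subsingleton.elim _ (not_not.1 h) _ _]
      exact map_zero _
  have e₁ : CohB1.support (kernel g).obj = CohB1.support (kernel g.hom) :=
    Groth.L21.Mod.support_congr (PreservesKernel.iso (QCohCat.isQCoh X).ι g)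
  have e₂ : CohB1.support (E.functor.obj (kernel g)).obj = CohB1.support (kernel (E.functor.map g).hom) :=
    Groth.L21.Mod.support_congr ((QCohCat.isQCoh Y).ι.mapIso (PreservesKernel.iso E.functor g) ≪≫
      PreservesKernel.iso (QCohCat.isQCoh Y).ι (E.functor.map g))
  rw [key, key, ← e₁, ← e₂, support_map E]
  rfl

theorem finite_stalk_fp {M : X.Modules} (hM : CohB1.IsFP M) (x : X) :
    Module.Finite (X.presheaf.stalk x) ((Groth.L00.Stk.F X x).obj M) :=
  Groth.L20.FibreModule.finite_stalk M (Groth.L05.Prufer.isQCoh_of_isFP hM) hM x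

theorem isFP_OQ : CohB1.IsFP (OQ X).obj := Groth.L19.FPExtend.isFP_structureModule X

/-- A linear map on the stalk of the structure sheaf from a residue. -/
theorem cyc_OQ {x : X} (hx : IsClosed ({x} : Set X)) : Cyc (OQ X) hx := by
  let Ex := Groth.L15.Ref.strE x
  exact cyc_of_gen (OQ X) hx (Ex 1)
    (eq_top_iff.2 fun s _ => by
      obtain ⟨r, rfl⟩ := Ex.surjective s
      exact Submodule.mem_span_singleton.2 ⟨r, (Ex.map_smul r 1).symm.trans (congrArg Ex (mul_one r))⟩)
    ((Algebra.linearMap _ (ResidueField (X.presheaf.stalk x))).comp Ex.symm.toLinearMap)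
    (by
      show algebraMap _ (ResidueField (X.presheaf.stalk x)) (Ex.symm (Ex 1)) = 1
      rw [Ex.symm_apply_apply, map_one])

/-- Points go to points. -/
theorem exists_iso_pt {y : Y} (hy : IsClosed ({y} : Set Y)) (hx : IsClosed ({homeoOfEquiv E y} : Set X)) :
    Nonempty (E.functor.obj (S hx) ≅ S hy) := by
  haveI := additive_functor E
  haveI : E.inverse.Additive := additive_functor E.symm
  let M := E.functor.obj (S hx)
  have hM : y ∈ CohB1.support M.obj := by
    rw [support_map E]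
    exact Set.mem_preimage.2 (mem_support_pt (homeoOfEquiv E y))
  obtain ⟨p₀, hp₀, -⟩ := cyc_OQ (X := X) hx
  have hfin : Module.Finite (Y.presheaf.stalk y) ((Groth.L00.Stk.F Y y).obj M.obj) := by
    haveI := finite_stalk_fp (isFP_map E (G := OQ X) isFP_OQ) y
    refine Module.Finite.of_surjective ((Groth.L00.Stk.F Y y).map (E.functor.map p₀).hom).hom
      ((surjective_map_iff E p₀ y).2 ?_)
    haveI := hp₀
    exact (ModuleCat.epi_iff_surjective _).1 inferInstance
  obtain ⟨q, hq⟩ := exists_hom_pt hfin hM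
  haveI : Epi q := epi_to_pt hy q (surjective_of_ne_zero q hq)
  let q' : M ⟶ S hy := ObjectProperty.homMk q
  haveI : Epi q' := (QCohCat.isQCoh Y).ι.epi_of_epi_map ‹_›
  let p : S hx ⟶ E.inverse.obj (S hy) := E.unit.app (S hx) ≫ E.inverse.map q'
  have hp : p.hom ≠ 0 := fun h => hq (by
    have h1 : p = 0 := ObjectProperty.hom_ext _ h
    have h2 : E.inverse.map q' = 0 := (cancel_epi (E.unit.app (S hx))).1 (h1.trans comp_zero.symm)
    exact congrArg (·.hom) (E.inverse.map_injective (h2.trans (E.inverse.map_zero _ _).symm)))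
  haveI : Mono p.hom := mono_from_pt hx p.hom hp
  haveI : Mono p := (QCohCat.isQCoh X).ι.mono_of_mono_map ‹_›
  haveI : Epi p := epi_comp _ _
  haveI : IsIso p := isIso_of_mono_of_epi p
  exact ⟨E.functor.mapIso (asIso p) ≪≫ E.counitIso.app _⟩

theorem isClosed_image {y : Y} (hy : IsClosed ({y} : Set Y)) : IsClosed ({homeoOfEquiv E y} : Set X) := by
  have := (homeoOfEquiv E).isClosedMap _ hy
  rwa [Set.image_singleton] at this

theorem nonempty_stalk_line {y : Y} (hy : IsClosed ({y} : Set Y)) :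
    Nonempty ((E.functor.obj (OQ X)).obj.presheaf.stalk y ≃ₗ[Y.presheaf.stalk y] Y.presheaf.stalk y) := by
  haveI := additive_functor E
  have hx := isClosed_image E hy
  obtain ⟨i⟩ := exists_iso_pt E hy hx
  let x := homeoOfEquiv E y
  let R := Y.presheaf.stalk y
  let L := E.functor.obj (OQ X)
  let L' := E.inverse.obj (OQ Y)
  obtain ⟨v, hv⟩ := ((cyc_OQ hx).map E i).exists_gen (finite_stalk_fp (isFP_map E (G := OQ X) isFP_OQ) y)
  let i' : E.symm.functor.obj (S hy) ≅ S hx := E.inverse.mapIso i.symm ≪≫ (E.unitIso.app _).symm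
  obtain ⟨w, hw⟩ := ((cyc_OQ hy).map E.symm i').exists_gen (finite_stalk_fp (isFP_map E.symm (G := OQ Y) isFP_OQ) x)
  -- a surjection from the structure sheaf onto the inverse line, near the point
  obtain ⟨_, ⟨V, hV, rfl⟩, hxV, -⟩ :=
    X.isBasis_affineOpens.exists_subset_of_mem_open (Set.mem_univ x) isOpen_univ
  haveI := qcoh L'
  obtain ⟨m, hm⟩ := Groth.L17.QCohGab.exists_mult (F := L'.obj) ⟨V, hV⟩ hxV w
  obtain ⟨M, hM, a, b, t, ha, ht, hb⟩ := exists_rep L'.obj (qcoh L') V hV.isCompact m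
  let M' : QC X := ⟨M, hM⟩
  let a' : M' ⟶ OQ X := ObjectProperty.homMk a
  let b' : M' ⟶ L' := ObjectProperty.homMk b
  have hbs : Function.Surjective ((Groth.L00.Stk.F X x).map b'.hom) := by
    intro s
    obtain ⟨r, hr⟩ := Submodule.mem_span_singleton.1 (hw.ge (Submodule.mem_top (x := s)))
    obtain ⟨r', hr'⟩ := Submodule.mem_span_singleton.1 hm
    refine ⟨(r * r') • M.presheaf.germ V x hxV t, ?_⟩
    rw [map_smul, stalk_app_germ, show b'.hom.app V t = m from hb, mul_smul]
    exact (congrArg (r • ·) hr').trans hr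
  have hai : Function.Bijective ((Groth.L00.Stk.F Y y).map (E.functor.map a').hom) :=
    ⟨(injective_map_iff E a' y).2 (ha x hxV).1, (surjective_map_iff E a' y).2 (ha x hxV).2⟩
  have hbi := (surjective_map_iff E b' y).2 hbs
  haveI : IsIso ((Groth.L00.Stk.F Y y).map (E.functor.map a').hom) := (ConcreteCategory.isIso_iff_bijective _).2 hai
  let ε : E.functor.obj L' ≅ OQ Y := E.counitIso.app _
  let Ey := Groth.L15.Ref.strE y
  let ψ : (Groth.L00.Stk.F Y y).obj L.obj ⟶ (Groth.L00.Stk.F Y y).obj (OQ Y).obj :=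
    inv ((Groth.L00.Stk.F Y y).map (E.functor.map a').hom) ≫ (Groth.L00.Stk.F Y y).map (E.functor.map b').hom ≫
      ((QCohCat.isQCoh Y).ι ⋙ Groth.L00.Stk.F Y y).map ε.hom
  have hψ : Function.Surjective ψ :=
    ((ConcreteCategory.bijective_of_isIso (((QCohCat.isQCoh Y).ι ⋙ Groth.L00.Stk.F Y y).map ε.hom)).2.comp hbi).comp
      (ConcreteCategory.bijective_of_isIso (inv ((Groth.L00.Stk.F Y y).map (E.functor.map a').hom))).2
  let Lx := (Groth.L00.Stk.F Y y).obj L.obj
  let φ : Lx →ₗ[R] R := Ey.symm.toLinearMap.comp ψ.hom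
  have hφ : Function.Surjective φ := Ey.symm.surjective.comp hψ
  let l : R →ₗ[R] Lx := LinearMap.toSpanSingleton R Lx v
  have hl : Function.Surjective l := by
    rw [← LinearMap.range_eq_top, ← LinearMap.span_singleton_eq_range, hv]
  refine ⟨(LinearEquiv.ofBijective l ⟨(injective_iff_map_eq_zero l).2 fun r hr => ?_, hl⟩).symm⟩
  obtain ⟨m₁, hm₁⟩ := hφ 1
  obtain ⟨c, hc⟩ := hl m₁
  have h1 : φ (r • m₁) = r := by rw [map_smul, hm₁, smul_eq_mul, mul_one]
  rw [← h1, ← hc, ← map_smul, smul_eq_mul, mul_comm, ← smul_eq_mul, map_smul l, hr, smul_zero, map_zero]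

/-- A finitely presented module with invertible closed stalks is invertible. -/
theorem isInvertible_of_closed_stalks {F : X.Modules} (hF : CohB1.IsFP F)
    (hst : ∀ y : X, IsClosed ({y} : Set X) →
      Nonempty (F.presheaf.stalk y ≃ₗ[X.presheaf.stalk y] X.presheaf.stalk y)) :
    PicF.IsInvertible F := by
  haveI := Groth.L05.Prufer.isQCoh_of_isFP hF
  refine Groth.L21.Bundle.isInvertible_of_rank fun z => ?_
  obtain ⟨y, hzy, hy⟩ := IsClosed.exists_closed_singleton (S := closure ({z} : Set X)) isClosed_closure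
    (Set.singleton_nonempty z).closure
  obtain ⟨θy⟩ := hst y hy
  haveI : Module.Flat (X.presheaf.stalk y) (F.presheaf.stalk y) := Module.Flat.of_linearEquiv θy
  obtain ⟨U, n, hyU, ⟨e⟩⟩ := Groth.L20.FibreFree.exists_free_nhd F hF y inferInstance
  have hU : U.ι ''ᵁ ⊤ = U := (Scheme.Hom.image_top_eq_opensRange U.ι).trans U.opensRange_ι
  obtain ⟨s, hs⟩ := Groth.L17.FinLocBases.exists_isBasis F e
  have hb := Groth.L17.PullBasis.bijective_stalk F s hs y (hU.symm ▸ hyU)
  let θn := LinearEquiv.ofBijective (Fintype.linearCombination (X.presheaf.stalk y)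
    fun j => Groth.L00.StalkTensor.germ (Groth.L00.Tensor.pre F) y (hU.symm ▸ hyU) (s j)) hb
  haveI : Nontrivial (X.presheaf.stalk y) := inferInstance
  have hn : n = 1 := by simpa using (θn.trans θy).finrank_eq
  obtain ⟨w, hw, hw'⟩ := mem_closure_iff.1 hzy U U.isOpen hyU
  exact ⟨U, (Set.mem_singleton_iff.1 hw') ▸ hw, ⟨hn ▸ e⟩⟩

theorem isInvertible_line : PicF.IsInvertible (E.functor.obj (OQ X)).obj :=
  isInvertible_of_closed_stalks (isFP_map E (G := OQ X) isFP_OQ) fun _ hy => nonempty_stalk_line E hy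

end Groth.L07.GabQ
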