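import Groth.Agent.L07.GabQ.Auto
import Groth.Agent.L07.BvdB.TwistLinear
import Groth.Agent.L08.Cube.Inverse
import Groth.Agent.L03.Euler.Twist
import Groth.Agent.L21.Bundle.Hom
import Groth.Agent.L16.Rees.PushExact
import Groth.Agent.L00.TensorQCoh

/-! Equivalences of categories of quasi-coherent modules come from isomorphisms and twists. -/

set_option autoImplicit false
set_option linter.unusedSectionVars false
set_option linter.style.haveILetI false
set_option backward.defeqAttrib.useBackward true
set_option backward.isDefEq.respectTransparency false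
set_option backward.isDefEq.respectTransparency.types false

universe u
open CategoryTheory CategoryTheory.Limits AlgebraicGeometry

noncomputable section

namespace Groth.L07.GabQ

open Groth.L00.Tensor
open Groth.L16.Rees.PushExact (rightModIso)

variable {X Y : Scheme.{u}} [CompactSpace X] [QuasiSeparatedSpace X] [CompactSpace Y] [QuasiSeparatedSpace Y]

theorem isQCoh_of_isInvertible' {L : Y.Modules} (hL : PicF.IsInvertible L) : Coh.IsQCoh L :=
  Groth.L21.Extend.isQCoh_of_isInvertible hL

theorem isQCoh_twist {L M : Y.Modules} (hL : PicF.IsInvertible L) (hM : Coh.IsQCoh M) :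
    Coh.IsQCoh (CohB1.tensorMod M L) := by
  haveI := hM
  haveI := isQCoh_of_isInvertible' hL
  exact Groth.L00.Tensor.isQCoh_tensorMod M L

/-- Twisting quasi-coherent modules. -/
def Tw (N : Y.Modules) (hN : PicF.IsInvertible N) : QC Y ⥤ QC Y :=
  ObjectProperty.lift _ ((QCohCat.isQCoh Y).ι ⋙ DCoh.tensorRightMod N) fun M => isQCoh_twist hN (qcoh M)

instance (N : Y.Modules) (hN : PicF.IsInvertible N) : (Tw N hN).Additive where
  map_add := ObjectProperty.hom_ext _ (DCoh.tensorRightMod N).map_add

theorem exists_pullback_twist (F : QC X ≌ QC Y) :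
    ∃ (f : Y ≅ X) (L : Y.Modules), PicF.IsInvertible L ∧
      Nonempty (F.functor ⋙ (QCohCat.isQCoh Y).ι ≅
        (QCohCat.isQCoh X).ι ⋙ Scheme.Modules.pullback f.hom ⋙
          DCoh.tensorRightMod L) := by
  haveI := additive_functor F
  let L : Y.Modules := (F.functor.obj (OQ X)).obj
  have hL : PicF.IsInvertible L := isInvertible_line F
  obtain ⟨N, hN, ⟨eN⟩⟩ := Groth.L08.Cube.exists_inverse hL
  let E := Groth.L21.Bundle.twistEquiv (L := N) (L' := L) eN
  haveI : (tensorRightF N).Full := (inferInstance : E.functor.Full)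
  haveI : (tensorRightF N).Faithful := (inferInstance : E.functor.Faithful)
  haveI : (DCoh.tensorRightMod N).Full := Functor.Full.of_iso (rightModIso N).symm
  haveI : (DCoh.tensorRightMod N).Faithful :=
    Functor.Faithful.of_iso (rightModIso N).symm
  haveI : (Tw N hN).Full := inferInstanceAs (ObjectProperty.lift _ _ _).Full
  haveI : (Tw N hN).Faithful := inferInstanceAs (ObjectProperty.lift _ _ _).Faithful
  let Ψ := F.functor ⋙ Tw N hN
  haveI : Ψ.Full := inferInstanceAs (F.functor ⋙ Tw N hN).Full
  haveI : Ψ.Additive := inferInstanceAs (F.functor ⋙ Tw N hN).Additive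
  let e₀ := homeoOfEquiv F
  have hΨ : SuppExact₂ (gm e₀) Ψ :=
    { surj := e₀.surjective
      supp := fun M => (Groth.L03.Euler.support_tensor hN _).trans (support_map F M)
      exact := fun f g w hS => by
        obtain ⟨w', hS'⟩ := map_shortExact F f g w hS
        let S := ShortComplex.mk (F.functor.map f).hom (F.functor.map g).hom w'
        haveI : (DCoh.tensorRightMod N).PreservesZeroMorphisms := inferInstance
        have hT : (S.map (DCoh.tensorRightMod N)).ShortExact :=
          (ShortComplex.shortExact_iff_of_iso (S.mapNatIso (rightModIso N))).2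
            (Groth.L03.Euler.shortExact_tensor hN hS')
        exact ⟨(S.map (DCoh.tensorRightMod N)).zero, hT⟩ }
  let u : Ψ.obj (OQ X) ≅ OQ Y := ObjectProperty.isoMk _ eN
  have hess : ∀ M : QC Y, ∃ M₀ : QC X, Nonempty (Ψ.obj M₀ ≅ M) := by
    intro M
    let ML : QC Y := ⟨CohB1.tensorMod M.obj L, isQCoh_twist hL (qcoh M)⟩
    exact ⟨F.inverse.obj ML, ⟨(Tw N hN).mapIso (F.counitIso.app ML) ≪≫ ObjectProperty.isoMk _
      (tensorAssoc M.obj L N ≪≫ tensorIso (Iso.refl _) eN ≪≫ tensorUnitRight M.obj)⟩⟩
  refine ⟨autIso e₀ u hΨ hess, L, hL, ⟨?_⟩⟩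
  let back : DCoh.tensorRightMod N ⋙ DCoh.tensorRightMod L ≅ 𝟭 Y.Modules :=
    NatIso.hcomp (rightModIso N) (rightModIso L) ≪≫ E.unitIso.symm
  let e₁ : F.functor ⋙ ObjectProperty.ι _ ≅ Ψ ⋙ ObjectProperty.ι _ ⋙ DCoh.tensorRightMod L :=
    (Functor.isoWhiskerLeft (F.functor ⋙ ObjectProperty.ι _) back ≪≫ Functor.rightUnitor _).symm
  exact e₁ ≪≫ Functor.isoWhiskerRight (pullIso e₀ u hΨ hess).symm (DCoh.tensorRightMod L)

end Groth.L07.GabQ
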