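import Groth.Agent.L07.GabQ.Base
import Groth.Agent.L17.QCohGab.Closure
import Groth.Agent.L20.ModStalk
import Groth.Agent.L15.FittSheaf
import Groth.Agent.L13.Fitting.Minors
import Groth.Agent.L00.TensorMod
import Groth.Agent.L29.DCoh.QCohOps
import Groth.Agent.S8876
import Mathlib.RingTheory.Ideal.Operations

/-! The Serre subcategory closed under sums generated by a module of finite presentation. -/

set_option autoImplicit false
set_option linter.unusedSectionVars false
set_option linter.style.haveILetI false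
set_option backward.defeqAttrib.useBackward true
set_option backward.isDefEq.respectTransparency false
set_option backward.isDefEq.respectTransparency.types false

universe u
open CategoryTheory CategoryTheory.Limits AlgebraicGeometry TopologicalSpace Opposite
open Groth.L18.Frame (rs rs_rs rs_self)

noncomputable section

namespace Groth.L07.GabQ

section Alg

theorem prod_mem_fitt {R : Type u} [CommRing R] {M : Type u} [AddCommGroup M] [Module R M] {n : ℕ}
    (x : Fin n → M) (hx : Submodule.span R (Set.range x) = ⊤) (a : Fin n → R) (ha : ∀ i, a i • x i = 0) :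
    ∏ i, a i ∈ Fitt.ideal R M 0 := by
  classical
  refine Ideal.subset_span ⟨n, x, Matrix.diagonal a, hx, fun i _ => ?_, (Matrix.det_diagonal).symm⟩
  rw [Finset.sum_eq_single i]
  · rw [Matrix.diagonal_apply_eq]; exact ha i
  · intro j _ hj; rw [Matrix.diagonal_apply_ne _ hj.symm, zero_smul]
  · intro h; exact absurd (Finset.mem_univ i) h

/-- A power of the annihilator of a finite module lies in the zeroth Fitting ideal. -/
theorem exists_annihilator_pow_le {R : Type u} [CommRing R] {M : Type u} [AddCommGroup M] [Module R M]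
    [Module.Finite R M] : ∃ n : ℕ, Module.annihilator R M ^ n ≤ Fitt.ideal R M 0 := by
  obtain ⟨n, x, hx⟩ := Module.Finite.exists_fin (R := R) (M := M)
  refine ⟨n, ?_⟩
  have key : Ideal.span ({d | ∃ a : Fin n → R, (∀ i, a i ∈ Module.annihilator R M) ∧ d = ∏ i, a i}) ≤
      Fitt.ideal R M 0 :=
    Ideal.span_le.2 fun d ⟨a, ha, hd⟩ => hd ▸ prod_mem_fitt x hx a fun i => Module.mem_annihilator.1 (ha i) _
  refine le_trans ?_ key
  clear key hx x
  induction n with
  | zero =>
    rw [pow_zero, Ideal.one_eq_top, top_le_iff, Ideal.eq_top_iff_one]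
    exact Ideal.subset_span ⟨Fin.elim0, fun i => i.elim0, by simp⟩
  | succ n ih =>
    rw [pow_succ']
    refine le_trans (Ideal.mul_mono_right ih) ?_
    refine Ideal.mul_le.2 fun r hr s hs => ?_
    induction hs using Submodule.span_induction with
    | mem d hd =>
      obtain ⟨a, ha, rfl⟩ := hd
      exact Ideal.subset_span ⟨Fin.cons r a, Fin.cases hr ha, by rw [Fin.prod_cons]⟩
    | zero => simp
    | add a b _ _ ha hb => rw [mul_add]; exact add_mem ha hb
    | smul c a _ ha =>
      rw [smul_eq_mul, mul_left_comm]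
      exact Ideal.mul_mem_left _ c ha

/-- A nonzero element killed by a power of an ideal has a nonzero multiple killed by the ideal. -/
theorem exists_killed {R : Type u} [CommRing R] {M : Type u} [AddCommGroup M] [Module R M] (I : Ideal R) :
    ∀ (n : ℕ) (m : M), m ≠ 0 → (∀ a ∈ I ^ n, a • m = 0) → ∃ m' : M, m' ≠ 0 ∧ ∀ a ∈ I, a • m' = 0
  | 0, m, hm, h => absurd (by simpa using h 1 (by simp)) hm
  | n + 1, m, hm, h => by
    by_cases h1 : ∀ a ∈ I, a • m = 0
    · exact ⟨m, hm, h1⟩
    · push Not at h1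
      obtain ⟨a, ha, ham⟩ := h1
      refine exists_killed I n (a • m) ham fun b hb => ?_
      rw [smul_smul]
      exact h _ (by rw [pow_succ]; exact Ideal.mul_mem_mul hb ha)

end Alg

variable {X : Scheme.{u}}

theorem nonempty_affine_sections {Q : X.Modules} (hQ : Coh.IsQCoh Q) {U : X.Opens} (hU : IsAffineOpen U)
    {x : X} (hx : x ∈ U) (h : x ∈ CohB1.support Q) :
    ∃ m : Γ(Q, U), Q.presheaf.germ U x hx m ≠ 0 := by
  haveI := hQ
  by_contra hne
  push Not at hne
  refine h (subsingleton_of_forall_eq 0 fun g => ?_)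
  obtain ⟨m, hm⟩ := Groth.L17.QCohGab.exists_mult ⟨U, hU⟩ hx g
  rw [hne m] at hm
  simpa using hm

/-- A nonzero quasi-coherent module supported in the support of `F` has a nonzero section killed by the
annihilator of the sections of `F`. -/
theorem exists_killed_section {F Q : X.Modules} (hFq : Coh.IsQCoh F) (hF : CohB1.IsFP F) (hQ : Coh.IsQCoh Q)
    (hs : CohB1.support Q ⊆ CohB1.support F) {U : X.Opens} (hU : IsAffineOpen U) {x : X} (hx : x ∈ U)
    (h : x ∈ CohB1.support Q) :
    ∃ m : Γ(Q, U), m ≠ 0 ∧ ∀ a ∈ Module.annihilator Γ(X, U) Γ(F, U), a • m = 0 := by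
  haveI := hFq
  haveI := hQ
  haveI : SheafOfModules.IsFinitePresentation (R := X.ringCatSheaf) F := hF
  have hft : CohB1.IsFT F := inferInstanceAs (SheafOfModules.IsFiniteType (R := X.ringCatSheaf) F)
  haveI := Groth.L20.ModStalk.finitePresentation_sections F hF hU
  haveI : Module.Finite Γ(X, U) Γ(F, U) := inferInstance
  obtain ⟨m, hm⟩ := nonempty_affine_sections hQ hU hx h
  have hm0 : m ≠ 0 := fun h0 => hm (by rw [h0]; exact map_zero _)
  let J := Fitt.ideal Γ(X, U) Γ(F, U) 0
  let A : Ideal Γ(X, U) := LinearMap.ker (LinearMap.toSpanSingleton Γ(X, U) Γ(Q, U) m)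
  have hJ : J ≤ A.radical := by
    rw [Ideal.radical_eq_sInf]
    refine le_sInf fun p ⟨hAp, hp⟩ => ?_
    haveI := hp
    by_contra hne
    let q : Spec Γ(X, U) := ⟨p, hp⟩
    let y := hU.fromSpec q
    have hy : y ∈ U := hU.range_fromSpec.le (Set.mem_range_self q)
    have hq : (hU.primeIdealOf ⟨y, hy⟩) = q :=
      hU.fromSpec.isOpenEmbedding.injective (hU.fromSpec_primeIdealOf ⟨y, hy⟩)
    have hyQ : y ∈ CohB1.support Q := by
      intro hsub
      letI := Groth.L20.ModStalk.stalkModule Q hy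
      haveI := Groth.L20.ModStalk.isLocalizedModule_germ Q hU hy
      obtain ⟨c, hc⟩ := (IsLocalizedModule.eq_zero_iff (hU.primeIdealOf ⟨y, hy⟩).asIdeal.primeCompl
        (Groth.L20.ModStalk.germₗ Q hy)).1 (@Subsingleton.elim _ hsub (Groth.L20.ModStalk.germₗ Q hy m) 0)
      have h2 : (c : Γ(X, U)) ∈ q.asIdeal := hAp hc
      exact c.2 ((congrArg (fun z : Spec Γ(X, U) => z.asIdeal) hq).ge h2)
    have hyF := hs hyQ
    rw [← Groth.Agent.S8876.result X F hFq hft] at hyF
    refine (Groth.L15.FittSheaf.notMem_support_iff F hft 0 (U := ⟨U, hU⟩) hy).2 ?_ hyF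
    show ¬ J ≤ (hU.primeIdealOf ⟨y, hy⟩).asIdeal
    rw [hq]
    exact hne
  obtain ⟨k, hk⟩ := Ideal.exists_pow_le_of_le_radical_of_fg hJ (Groth.L13.Fitting.ideal_fg_of_finitePresentation 0)
  obtain ⟨g, hg⟩ := exists_annihilator_pow_le (R := Γ(X, U)) (M := Γ(F, U))
  refine exists_killed _ (g * k) m hm0 fun a ha => ?_
  rw [pow_mul] at ha
  exact LinearMap.mem_ker.1 (hk (Ideal.pow_right_mono hg k ha))

theorem comp_eq_zero_on {K M Q : X.Modules} (hK : Coh.IsQCoh K) (i : K ⟶ M) (b : M ⟶ Q) {U : X.Opens}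
    (hU : IsAffineOpen U) (h : ∀ k : Γ(K, U), b.app U (i.app U k) = 0) : ZeroOn (i ≫ b) U := by
  haveI := hK
  intro x hx g
  obtain ⟨k, hk⟩ := Groth.L17.QCohGab.exists_mult ⟨U, hU⟩ hx g
  obtain ⟨r, rfl⟩ := Submodule.mem_span_singleton.1 hk
  refine (map_smul ((Groth.L00.Stk.F X x).map (i ≫ b)).hom r _).trans ?_
  rw [show ((Groth.L00.Stk.F X x).map (i ≫ b)).hom (K.presheaf.germ U x hx k) = 0 from
    (stalk_app_germ (i ≫ b) hx k).trans (by rw [show (i ≫ b).app U k = 0 from h k, map_zero])]
  exact smul_zero r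

theorem support_image_subset {A Q : X.Modules} (f : A ⟶ Q) : CohB1.support (Abelian.image f) ⊆ CohB1.support Q :=
  Groth.L21.Mod.support_mono (Abelian.image.ι f)

theorem not_mem_support_image {A Q : X.Modules} (f : A ⟶ Q) {U : X.Opens} (hf : ZeroOn f U) {x : X}
    (hx : x ∈ U) : x ∉ CohB1.support (Abelian.image f) := by
  refine not_not.2 (subsingleton_of_forall_eq 0 fun t => ?_)
  haveI : Epi ((Groth.L00.Stk.F X x).map (Abelian.factorThruImage f)) := inferInstance
  haveI : Mono ((Groth.L00.Stk.F X x).map (Abelian.image.ι f)) := inferInstance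
  obtain ⟨a, rfl⟩ := (ModuleCat.epi_iff_surjective ((Groth.L00.Stk.F X x).map (Abelian.factorThruImage f))).1
    inferInstance t
  refine (ModuleCat.mono_iff_injective ((Groth.L00.Stk.F X x).map (Abelian.image.ι f))).1 inferInstance ?_
  rw [← ConcreteCategory.comp_apply, ← Functor.map_comp, Abelian.image.fac, map_zero]
  exact hf x hx a

variable (P : ObjectProperty X.Modules)

/-- A Serre class on quasi-coherent modules closed under sums. -/
structure IsClass : Prop where
  serre : ∀ S : ShortComplex X.Modules, S.ShortExact → Coh.IsQCoh S.X₁ → Coh.IsQCoh S.X₂ →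
      Coh.IsQCoh S.X₃ → (P S.X₂ ↔ P S.X₁ ∧ P S.X₃)
  sum : ∀ (ι : Type u) (M : ι → X.Modules), (∀ i, Coh.IsQCoh (M i)) → (∀ i, P (M i)) → P (∐ M)

variable {P}

theorem IsClass.of_mono (hP : IsClass P) {A B : X.Modules} (i : A ⟶ B) [Mono i] (hA : Coh.IsQCoh A)
    (hB : Coh.IsQCoh B) (h : P B) : P A :=
  ((hP.serre (ShortComplex.mk i (cokernel.π i) (cokernel.condition i))
    { exact := ShortComplex.exact_cokernel i, mono_f := ‹_›, epi_g := inferInstanceAs (Epi (cokernel.π i)) }
    hA hB (Groth.L00.AlgQCoh.isQCoh_kernel_cokernel i hA hB).2).1 h).1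

theorem IsClass.of_epi (hP : IsClass P) {A B : X.Modules} (p : A ⟶ B) [Epi p] (hA : Coh.IsQCoh A)
    (hB : Coh.IsQCoh B) (h : P A) : P B :=
  ((hP.serre (ShortComplex.mk (kernel.ι p) p (kernel.condition p))
    { exact := ShortComplex.exact_kernel p, mono_f := inferInstanceAs (Mono (kernel.ι p)), epi_g := ‹_› }
    (Groth.L00.AlgQCoh.isQCoh_kernel_cokernel p hA hB).1 hA hB).1 h).2

theorem IsClass.biprod (hP : IsClass P) {A B : X.Modules} (hA : Coh.IsQCoh A) (hB : Coh.IsQCoh B)
    (h₁ : P A) (h₂ : P B) : P (A ⊞ B) :=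
  (hP.serre _ (ShortComplex.Splitting.ofHasBinaryBiproduct A B).shortExact hA (isQCoh_biprod hA hB) hB).2
    ⟨h₁, h₂⟩

variable [CompactSpace X] [QuasiSeparatedSpace X]

/-- The local step. -/
theorem exists_hom_of_killed (hP : IsClass P) {F Q : X.Modules} (hFq : Coh.IsQCoh F) (hF : CohB1.IsFP F) (hPF : P F)
    (hQ : Coh.IsQCoh Q) {U : X.Opens} (hU : IsAffineOpen U)
    (hz : ∀ (K : X.Modules) (f : K ⟶ Q), Coh.IsQCoh K → ZeroOn f U → f = 0)
    (m : Γ(Q, U)) (hm : m ≠ 0) (hkill : ∀ a ∈ Module.annihilator Γ(X, U) Γ(F, U), a • m = 0) :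
    ∃ (A : X.Modules) (f : A ⟶ Q), Coh.IsQCoh A ∧ P A ∧ f ≠ 0 := by
  haveI := hFq
  haveI := Groth.L20.ModStalk.finitePresentation_sections F hF hU
  haveI : Module.Finite Γ(X, U) Γ(F, U) := inferInstance
  obtain ⟨n, x, hx⟩ := Module.Finite.exists_fin (R := Γ(X, U)) (M := Γ(F, U))
  let G : X.Modules := ∐ fun _ : ULift.{u} (Fin n) => F
  have hG : Coh.IsQCoh G := Groth.L00.AlgQCoh.isQCoh_sigma _ fun _ => hFq
  have hPG : P G := hP.sum _ _ (fun _ => hFq) fun _ => hPF
  let π : Fin n → (G ⟶ F) := fun i => Sigma.desc fun j => if j.down = i then 𝟙 F else 0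
  have hπ : ∀ i j, Sigma.ι (fun _ : ULift.{u} (Fin n) => F) ⟨j⟩ ≫ π i = if j = i then 𝟙 F else 0 :=
    fun i j => Sigma.ι_desc _ _
  let s : Γ(G, U) := ∑ j, (Sigma.ι (fun _ : ULift.{u} (Fin n) => F) ⟨j⟩).app U (x j)
  have hs : ∀ i, (π i).app U s = x i := fun i => by
    rw [map_sum, Finset.sum_eq_single i]
    · refine (congr(($(hπ i i)).app U (x i))).trans ?_
      rw [if_pos rfl]
      rfl
    · intro j _ hj
      refine (congr(($(hπ i j)).app U (x j))).trans ?_
      rw [if_neg hj]
      rfl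
    · intro h; exact absurd (Finset.mem_univ i) h
  let N := G ⊞ Q
  let σ : Γ(N, U) := (biprod.inl : G ⟶ N).app U s + (biprod.inr : Q ⟶ N).app U m
  obtain ⟨M, hM, c, b, t, hc, ht, hb⟩ :=
    exists_rep N (isQCoh_biprod hG hQ) U hU.isCompact σ
  let b₁ := b ≫ biprod.fst
  let b₂ := b ≫ biprod.snd
  have e1 : b₁.app U t = s := by
    show (biprod.fst : N ⟶ G).app U (b.app U t) = s
    rw [hb, map_add]
    have h1 := congr(($(biprod.inl_fst (X := G) (Y := Q))).app U s)
    have h2 := congr(($(biprod.inr_fst (X := G) (Y := Q))).app U m)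
    refine (congrArg₂ (· + ·) h1 h2).trans ?_
    exact add_zero s
  have e2 : b₂.app U t = m := by
    show (biprod.snd : N ⟶ Q).app U (b.app U t) = m
    rw [hb, map_add]
    have h1 := congr(($(biprod.inl_snd (X := G) (Y := Q))).app U s)
    have h2 := congr(($(biprod.inr_snd (X := G) (Y := Q))).app U m)
    refine (congrArg₂ (· + ·) h1 h2).trans ?_
    exact zero_add m
  have hker : kernel.ι b₁ ≫ b₂ = 0 := by
    have hK := (Groth.L00.AlgQCoh.isQCoh_kernel_cokernel b₁ hM hG).1
    refine hz _ _ hK (comp_eq_zero_on hK _ _ hU fun k => ?_)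
    let z := (kernel.ι b₁).app U k
    let r : Γ(X, U) := c.app U z
    have hzt : z = r • t := (eq_smul_gen c hc t ht le_rfl z).trans (by rw [rs_self])
    have h0 : r • s = 0 := by
      rw [← e1, ← Scheme.Modules.Hom.app_smul, ← hzt]
      exact congr(($(kernel.condition b₁)).app U k)
    show b₂.app U z = 0
    rw [hzt, Scheme.Modules.Hom.app_smul, e2]
    refine hkill r (Module.mem_annihilator.2 fun v => ?_)
    have hv : v ∈ Submodule.span Γ(X, U) (Set.range x) := hx ▸ Submodule.mem_top
    induction hv using Submodule.span_induction with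
    | mem w hw =>
      obtain ⟨i, rfl⟩ := hw
      rw [← hs i, ← Scheme.Modules.Hom.app_smul, h0, map_zero]
    | zero => simp
    | add a b _ _ ha hb => rw [smul_add, ha, hb, add_zero]
    | smul a b _ hb => rw [smul_comm, hb, smul_zero]
  let desc : Abelian.coimage b₁ ⟶ Q := cokernel.desc _ b₂ hker
  have hC : Coh.IsQCoh (Abelian.coimage b₁) :=
    (Groth.L00.AlgQCoh.isQCoh_kernel_cokernel _ (Groth.L00.AlgQCoh.isQCoh_kernel_cokernel b₁ hM hG).1 hM).2
  refine ⟨_, desc, hC, hP.of_mono (Abelian.factorThruCoimage b₁) hC hG hPG, fun h0 => hm ?_⟩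
  rw [← e2]
  have : b₂ = 0 := by
    rw [← cokernel.π_desc (kernel.ι b₁) b₂ hker]
    exact (congrArg (cokernel.π (kernel.ι b₁) ≫ ·) h0).trans comp_zero
  rw [this]
  rfl

/-- A nonzero module supported in the support of `F` receives a nonzero map from the class. -/
theorem exists_hom (hP : IsClass P) {F : X.Modules} (hFq : Coh.IsQCoh F) (hF : CohB1.IsFP F) (hPF : P F)
    {Q : X.Modules} (hQ : Coh.IsQCoh Q) (hs : CohB1.support Q ⊆ CohB1.support F) (hne : ¬ IsZero Q) :
    ∃ (A : X.Modules) (f : A ⟶ Q), Coh.IsQCoh A ∧ P A ∧ f ≠ 0 := by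
  classical
  obtain ⟨t, ht⟩ := (isCompact_univ (X := X)).elim_finite_subcover (fun V : X.affineOpens => (V.1 : Set X))
    (fun V => V.1.2) fun x _ => by
      obtain ⟨_, ⟨V, hV, rfl⟩, hxV, -⟩ :=
        X.isBasis_affineOpens.exists_subset_of_mem_open (Set.mem_univ x) isOpen_univ
      exact Set.mem_iUnion.2 ⟨⟨V, hV⟩, hxV⟩
  have key : ∀ (r : Finset X.affineOpens) (Q : X.Modules), Coh.IsQCoh Q → CohB1.support Q ⊆ CohB1.support F →
      ¬ IsZero Q → CohB1.support Q ⊆ ⋃ V ∈ r, (V.1 : Set X) →
        ∃ (A : X.Modules) (f : A ⟶ Q), Coh.IsQCoh A ∧ P A ∧ f ≠ 0 := by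
    intro r
    induction r using Finset.induction with
    | empty =>
      intro Q _ _ hne hsub
      exact (hne ((Groth.L21.Mod.isZero_iff_support_eq_empty Q).2 (Set.eq_empty_iff_forall_notMem.2
        fun x hx => by simpa using hsub hx))).elim
    | insert V r hV ih =>
      intro Q hQ hs hne hsub
      by_cases hz : ∀ (K : X.Modules) (f : K ⟶ Q), Coh.IsQCoh K → ZeroOn f V.1 → f = 0
      · by_cases hV' : ∃ x ∈ V.1, x ∈ CohB1.support Q
        · obtain ⟨x, hx, hxQ⟩ := hV'
          obtain ⟨m, hm, hk⟩ := exists_killed_section hFq hF hQ hs V.2 hx hxQ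
          exact exists_hom_of_killed hP hFq hF hPF hQ V.2 hz m hm hk
        · push Not at hV'
          refine ih Q hQ hs hne fun x hx => ?_
          have := hsub hx
          simp only [Finset.mem_insert, Set.mem_iUnion, exists_prop] at this ⊢
          obtain ⟨W, rfl | hW, hxW⟩ := this
          · exact absurd hx (hV' x hxW)
          · exact ⟨W, hW, hxW⟩
      · push Not at hz
        obtain ⟨K, f, hK, hf, hf0⟩ := hz
        have hI : ¬ IsZero (Abelian.image f) := fun h => hf0 (by
          rw [← Abelian.image.fac f, h.eq_of_tgt (Abelian.factorThruImage f) 0, zero_comp])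
        obtain ⟨A, g, hA, hPA, hg⟩ := ih (Abelian.image f) (isQCoh_image f hK hQ)
          ((support_image_subset f).trans hs) hI fun x hx => by
            have h1 := hsub (support_image_subset f hx)
            simp only [Finset.mem_insert, Set.mem_iUnion, exists_prop] at h1 ⊢
            obtain ⟨W, rfl | hW, hxW⟩ := h1
            · exact absurd hx (not_mem_support_image f hf hxW)
            · exact ⟨W, hW, hxW⟩
        exact ⟨A, g ≫ Abelian.image.ι f, hA, hPA, fun h => hg ((cancel_mono (Abelian.image.ι f)).1 (h.trans zero_comp.symm))⟩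
  exact key t Q hQ hs hne fun x _ => ht (Set.mem_univ x)

/-- Everything supported in the support of `F` is in the class. -/
theorem IsClass.of_support (hP : IsClass P) {F : X.Modules} (hFq : Coh.IsQCoh F) (hF : CohB1.IsFP F) (hPF : P F)
    {E : X.Modules} (hE : Coh.IsQCoh E) (hs : CohB1.support E ⊆ CohB1.support F) : P E := by
  haveI := Groth.L00.Tensor.grothendieckAbelian_modules X
  let J := {j : Shrink.{u} (Subobject E) // Coh.IsQCoh (((equivShrink (Subobject E)).symm j : Subobject E) : X.Modules) ∧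
    P (((equivShrink (Subobject E)).symm j : Subobject E) : X.Modules)}
  let φ : (∐ fun j : J => (((equivShrink (Subobject E)).symm j.1 : Subobject E) : X.Modules)) ⟶ E :=
    Sigma.desc fun j => ((equivShrink (Subobject E)).symm j.1).arrow
  have hS : Coh.IsQCoh (∐ fun j : J => (((equivShrink (Subobject E)).symm j.1 : Subobject E) : X.Modules)) :=
    Groth.L00.AlgQCoh.isQCoh_sigma _ fun j => j.2.1
  have hPS : P (∐ fun j : J => (((equivShrink (Subobject E)).symm j.1 : Subobject E) : X.Modules)) :=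
    hP.sum _ _ (fun j => j.2.1) fun j => j.2.2
  by_cases hC : IsZero (cokernel φ)
  · haveI : Epi φ := Preadditive.epi_of_isZero_cokernel φ hC
    exact hP.of_epi φ hS hE hPS
  exfalso
  have hCq := (Groth.L00.AlgQCoh.isQCoh_kernel_cokernel φ hS hE).2
  obtain ⟨A, f, hA, hPA, hf⟩ := exists_hom hP hFq hF hPF hCq
    ((Groth.L21.Mod.support_epi (cokernel.π φ)).trans hs) hC
  let I := Abelian.image f
  have hIq := isQCoh_image f hA hCq
  have hPI : P I := hP.of_epi (Abelian.factorThruImage f) hA hIq hPA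
  let T := pullback (cokernel.π φ) (Abelian.image.ι f)
  have hT : Coh.IsQCoh T := isQCoh_pullback _ _ hE hIq hCq
  let p : T ⟶ E := pullback.fst _ _
  let q : T ⟶ I := pullback.snd _ _
  haveI : Mono p := inferInstance
  haveI : Epi q := inferInstance
  have hKq := (Groth.L00.AlgQCoh.isQCoh_kernel_cokernel q hT hIq).1
  have hw : (kernel.ι q ≫ p) ≫ cokernel.π φ = 0 := by
    rw [Category.assoc, pullback.condition, ← Category.assoc, kernel.condition, zero_comp]
  have hPK : P (kernel q) := by
    have hIφ := isQCoh_image φ hS hE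
    have hPIφ : P (Abelian.image φ) := hP.of_epi (Abelian.factorThruImage φ) hS hIφ hPS
    haveI : Mono (kernel.lift (cokernel.π φ) (kernel.ι q ≫ p) hw) := mono_of_mono_fac (kernel.lift_ι _ _ hw)
    exact hP.of_mono (kernel.lift (cokernel.π φ) (kernel.ι q ≫ p) hw) hKq hIφ hPIφ
  have hPT : P T := (hP.serre (ShortComplex.mk (kernel.ι q) q (kernel.condition q))
    { exact := ShortComplex.exact_kernel q, mono_f := inferInstanceAs (Mono (kernel.ι q)), epi_g := ‹_› }
    hKq hT hIq).2 ⟨hPK, hPI⟩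
  let S₀ := Subobject.mk p
  let e := Subobject.underlyingIso p
  have hS₀q : Coh.IsQCoh (S₀ : X.Modules) := Groth.L00.AlgQCoh.qcohIso e.symm hT
  have hS₀ : P (S₀ : X.Modules) := hP.of_epi e.inv hT hS₀q hPT
  let j : J := ⟨equivShrink _ S₀, by rw [Equiv.symm_apply_apply]; exact ⟨hS₀q, hS₀⟩⟩
  have hj : ((equivShrink (Subobject E)).symm j.1).arrow ≫ cokernel.π φ = 0 := by
    rw [← Sigma.ι_desc (fun j : J => ((equivShrink (Subobject E)).symm j.1).arrow) j, Category.assoc]
    rw [show Sigma.desc (fun j : J => ((equivShrink (Subobject E)).symm j.1).arrow) ≫ cokernel.π φ = 0 from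
      cokernel.condition φ, comp_zero]
  have hpz : p ≫ cokernel.π φ = 0 := by
    have h1 : ∀ S : Subobject E, S = S₀ → S.arrow ≫ cokernel.π φ = 0 → p ≫ cokernel.π φ = 0 := by
      rintro S rfl h
      rw [← Subobject.underlyingIso_arrow p, Category.assoc, h, comp_zero]
    exact h1 _ (Equiv.symm_apply_apply _ _) hj
  have : q ≫ Abelian.image.ι f = 0 := pullback.condition.symm.trans hpz
  have h0 : Abelian.image.ι f = 0 := (cancel_epi q).1 (this.trans comp_zero.symm)
  exact hf (by rw [← Abelian.image.fac f, h0, comp_zero])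

end Groth.L07.GabQ
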